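import Mathlib

/-!
Element orders of `PSL(2,q)`: the divisors of `p`, `(q-1)/d` and `(q+1)/d`, `d = gcd(2, q-1)`.
-/

set_option autoImplicit false

namespace CfsgLib.PSL2Spec

open Matrix

section General

theorem mem_range_orderOf_of_dvd {G : Type*} [Group G] [Finite G] {g : G} {n : ℕ}
    (h : n ∣ orderOf g) : n ∈ Set.range (orderOf : G → ℕ) := by
  obtain ⟨m, hm⟩ := h
  have hm0 : m ≠ 0 := by
    rintro rfl
    exact (orderOf_pos g).ne' (by simpa using hm)
  refine ⟨g ^ m, ?_⟩
  rw [orderOf_pow_of_dvd hm0 (hm ▸ dvd_mul_left m n), hm, Nat.mul_div_cancel _ (Nat.pos_of_ne_zero hm0)]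

theorem prime_dvd_card_iff (G : Type*) [Group G] [Finite G] {r : ℕ} (hr : r.Prime) :
    r ∣ Nat.card G ↔ r ∈ Set.range (orderOf : G → ℕ) := by
  have : Fact r.Prime := ⟨hr⟩
  exact ⟨fun h => exists_prime_orderOf_dvd_card' r h, fun ⟨x, hx⟩ => hx ▸ orderOf_dvd_natCard x⟩

theorem range_orderOf_prod (G H : Type*) [Group G] [Group H] :
    Set.range (orderOf : G × H → ℕ) =
      {n | ∃ a ∈ Set.range (orderOf : G → ℕ), ∃ b ∈ Set.range (orderOf : H → ℕ), n = Nat.lcm a b} := by
  ext n
  constructor
  · rintro ⟨x, rfl⟩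
    exact ⟨_, ⟨x.1, rfl⟩, _, ⟨x.2, rfl⟩, Prod.orderOf x⟩
  · rintro ⟨a, ⟨g, rfl⟩, b, ⟨h, rfl⟩, rfl⟩
    exact ⟨(g, h), Prod.orderOf (g, h)⟩

end General

variable {F : Type*} [Field F]

/-- An element of `PSL(2,F)` is trivial iff the matrix is scalar. -/
theorem mk_eq_one_iff (A : Matrix.SpecialLinearGroup (Fin 2) F) :
    (QuotientGroup.mk A : ProjectiveSpecialLinearGroup (Fin 2) F) = 1 ↔
      ∃ c : F, (A : Matrix (Fin 2) (Fin 2) F) = c • 1 := by
  rw [QuotientGroup.eq_one_iff, Matrix.SpecialLinearGroup.mem_center_iff]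
  constructor
  · rintro ⟨r, -, hr⟩
    exact ⟨r, by rw [← hr, scalar_apply, smul_one_eq_diagonal]⟩
  · rintro ⟨c, hc⟩
    refine ⟨c, ?_, by rw [hc, scalar_apply, smul_one_eq_diagonal]⟩
    have h := A.2
    rw [hc] at h
    simpa using h

/-- The Cayley–Hamilton interpolation of powers of a `2 × 2` matrix. -/
theorem pow_mul_sub {K : Type*} [Field K] (A : Matrix (Fin 2) (Fin 2) K) (a b : K)
    (hA : (A - a • 1) * (A - b • 1) = 0) (n : ℕ) :
    (a - b) • A ^ n = (a ^ n - b ^ n) • A - (a ^ n * b - b ^ n * a) • 1 := by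
  have h2 : A * A = (a + b) • A - (a * b) • 1 := by
    have : (A - a • 1) * (A - b • 1) = A * A - (a + b) • A + (a * b) • 1 := by
      simp only [Matrix.sub_mul, Matrix.mul_sub, Matrix.smul_mul, Matrix.mul_smul, Matrix.one_mul,
        Matrix.mul_one]
      module
    rw [this] at hA
    linear_combination (norm := module) hA
  induction n with
  | zero =>
    ext i j
    simp
    ring
  | succ n ih =>
    rw [pow_succ, ← Matrix.smul_mul, ih, Matrix.sub_mul, Matrix.smul_mul, Matrix.smul_mul,
      Matrix.one_mul, h2]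
    ext i j
    simp [pow_succ]
    ring

variable {K : Type*} [Field K]

theorem quad_zero (f : F →+* K) (A : Matrix.SpecialLinearGroup (Fin 2) F) (l : K)
    (hl : l * (f (A : Matrix (Fin 2) (Fin 2) F).trace - l) = 1) :
    (f.mapMatrix (A : Matrix (Fin 2) (Fin 2) F) - l • 1) *
      (f.mapMatrix (A : Matrix (Fin 2) (Fin 2) F) -
        (f (A : Matrix (Fin 2) (Fin 2) F).trace - l) • 1) = 0 := by
  have hd : f ((A : Matrix (Fin 2) (Fin 2) F) 0 0) * f ((A : Matrix (Fin 2) (Fin 2) F) 1 1) -
      f ((A : Matrix (Fin 2) (Fin 2) F) 0 1) * f ((A : Matrix (Fin 2) (Fin 2) F) 1 0) = 1 := by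
    rw [← map_mul, ← map_mul, ← map_sub, ← det_fin_two, A.2, map_one]
  simp only [trace_fin_two, map_add] at hl ⊢
  ext i j
  fin_cases i <;> fin_cases j <;> simp [Matrix.mul_apply, Fin.sum_univ_two]
  · linear_combination hl - hd
  · ring
  · ring
  · linear_combination hl - hd

/-- With distinct eigenvalues `l, 1/l` the order in `PSL₂` is the order of `l²`. -/
theorem orderOf_mk (f : F →+* K) (A : Matrix.SpecialLinearGroup (Fin 2) F) (l : K)
    (hl : l * (f (A : Matrix (Fin 2) (Fin 2) F).trace - l) = 1)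
    (hne : l ≠ f (A : Matrix (Fin 2) (Fin 2) F).trace - l) :
    orderOf (QuotientGroup.mk A : ProjectiveSpecialLinearGroup (Fin 2) F) = orderOf (l * l) := by
  set m := f (A : Matrix (Fin 2) (Fin 2) F).trace - l with hm
  set B := f.mapMatrix (A : Matrix (Fin 2) (Fin 2) F) with hB
  have hq : (B - l • 1) * (B - m • 1) = 0 := quad_zero f A l hl
  have hlm : l - m ≠ 0 := sub_ne_zero.2 hne
  have key : ∀ n : ℕ, (∃ c : F, ((A ^ n : Matrix.SpecialLinearGroup (Fin 2) F) : Matrix (Fin 2) (Fin 2) F) = c • 1) ↔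
      l ^ n = m ^ n := by
    intro n
    have hp := pow_mul_sub B l m hq n
    have hBn : B ^ n = f.mapMatrix ((A ^ n : Matrix.SpecialLinearGroup (Fin 2) F) : Matrix (Fin 2) (Fin 2) F) := by
      rw [Matrix.SpecialLinearGroup.coe_pow, map_pow]
    constructor
    · rintro ⟨c, hc⟩
      by_contra hne'
      have hBc : B ^ n = f c • 1 := by
        rw [hBn, hc]; ext i j; simp [Matrix.one_apply, apply_ite f]
      rw [hBc] at hp
      have he : ∀ i j, B i j = if i = j then
          ((l - m) * f c + (l ^ n * m - m ^ n * l)) / (l ^ n - m ^ n) else 0 := by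
        intro i j
        have h := congrFun (congrFun hp i) j
        simp only [Matrix.smul_apply, Matrix.sub_apply, Matrix.one_apply, smul_eq_mul] at h
        split_ifs with hij
        · rw [if_pos hij] at h
          rw [eq_div_iff (sub_ne_zero.2 hne')]
          linear_combination -h
        · rw [if_neg hij] at h
          have : (l ^ n - m ^ n) * B i j = 0 := by linear_combination -h
          exact (mul_eq_zero.1 this).resolve_left (sub_ne_zero.2 hne')
      have h01 : B 0 1 = 0 := by rw [he]; simp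
      have h00 : B 1 1 = B 0 0 := by rw [he, he]; simp
      have hdet : B 0 0 * B 0 0 = 1 := by
        have := A.2
        rw [det_fin_two] at this
        have h := congrArg f this
        rw [map_sub, map_mul, map_mul, map_one] at h
        have e : ∀ i j, B i j = f ((A : Matrix (Fin 2) (Fin 2) F) i j) := fun i j => rfl
        rw [← e, ← e, ← e, ← e, h01, h00] at h
        simpa using h
      have htr : B 0 0 + B 0 0 = l + m := by
        nth_rw 2 [← h00]
        rw [hm, trace_fin_two, map_add]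
        show f _ + f _ = _
        ring
      exact hne (sub_eq_zero.1 (pow_eq_zero_iff two_ne_zero |>.1
        (show (l - m) ^ 2 = 0 by
          linear_combination (B 0 0 + B 0 0 + l + m) * (-htr) + 4 * hdet - 4 * hl)))
    · intro h
      refine ⟨((A ^ n : Matrix.SpecialLinearGroup (Fin 2) F) : Matrix (Fin 2) (Fin 2) F) 0 0, ?_⟩
      have hB' : B ^ n = l ^ n • 1 := by
        rw [← h] at hp
        have : (l - m) • B ^ n = (l - m) • (l ^ n • (1 : Matrix (Fin 2) (Fin 2) K)) := by
          rw [hp, sub_self, zero_smul, zero_sub, smul_smul, ← neg_smul]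
          congr 1; ring
        exact smul_right_injective _ hlm this
      rw [hBn] at hB'
      have hinj : ∀ i j, f (((A ^ n : Matrix.SpecialLinearGroup (Fin 2) F) : Matrix (Fin 2) (Fin 2) F) i j) =
          (if i = j then l ^ n else 0) := fun i j => by
        have := congrFun (congrFun hB' i) j
        simpa [Matrix.one_apply] using this
      rw [Matrix.SpecialLinearGroup.coe_pow] at hinj ⊢
      ext i j
      apply f.injective
      fin_cases i <;> fin_cases j <;> simp [hinj]
  apply orderOf_eq_orderOf_iff.2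
  intro n
  rw [← QuotientGroup.mk_pow, mk_eq_one_iff, key]
  have h1 : l ^ n * m ^ n = 1 := by rw [← mul_pow, hl, one_pow]
  rw [mul_pow]
  constructor
  · intro h; rwa [← h] at h1
  · intro h
    exact mul_left_cancel₀ (a := l ^ n) (by intro h0; rw [h0, zero_mul] at h; exact zero_ne_one h)
      (h.trans h1.symm)

variable [Fintype F]

theorem mem_range_of_pow_card {x : K} (f : F →+* K) (hx : x ^ Fintype.card F = x) :
    ∃ a : F, f a = x := by
  classical
  have h1 : 1 < Fintype.card F := Fintype.one_lt_card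
  have hp : (Polynomial.X ^ Fintype.card F - Polynomial.X : Polynomial K) ≠ 0 :=
    FiniteField.X_pow_card_sub_X_ne_zero K h1
  let S := (Polynomial.X ^ Fintype.card F - Polynomial.X : Polynomial K).roots.toFinset
  have hsub : Finset.univ.image f ⊆ S := by
    intro y hy
    obtain ⟨a, -, rfl⟩ := Finset.mem_image.1 hy
    simp [S, hp, ← map_pow, FiniteField.pow_card]
  have hc : S.card ≤ (Finset.univ.image f).card := by
    rw [Finset.card_image_of_injective _ f.injective, Finset.card_univ]
    exact (Multiset.toFinset_card_le _).trans ((Polynomial.card_roots' _).trans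
      (le_of_eq (FiniteField.X_pow_card_sub_X_natDegree_eq K h1)))
  have : x ∈ S := by simp [S, hp, hx]
  rw [← Finset.eq_of_subset_of_card_le hsub hc] at this
  obtain ⟨a, -, ha⟩ := Finset.mem_image.1 this
  exact ⟨a, ha⟩

theorem gcd_dvd (F : Type*) [Field F] [Fintype F] :
    Nat.gcd 2 (Fintype.card F - 1) ∣ Fintype.card F - 1 ∧
    Nat.gcd 2 (Fintype.card F - 1) ∣ Fintype.card F + 1 := by
  refine ⟨Nat.gcd_dvd_right _ _, ?_⟩
  have : Fintype.card F + 1 = (Fintype.card F - 1) + 2 := by
    have := Fintype.one_lt_card (α := F); omega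
  rw [this]
  exact dvd_add (Nat.gcd_dvd_right _ _) (Nat.gcd_dvd_left _ _)

theorem gcd_eq (F : Type*) [Field F] [Fintype F] :
    Nat.gcd (Fintype.card F + 1) 2 = Nat.gcd 2 (Fintype.card F - 1) := by
  have : Fintype.card F + 1 = (Fintype.card F - 1) + 2 := by
    have := Fintype.one_lt_card (α := F); omega
  rw [this, Nat.gcd_add_self_left, Nat.gcd_comm]

variable (p : ℕ) [hp : Fact p.Prime] [CharP F p]

theorem orderOf_dvd (g : ProjectiveSpecialLinearGroup (Fin 2) F) :
    orderOf g ∣ p ∨ orderOf g ∣ (Fintype.card F - 1) / Nat.gcd 2 (Fintype.card F - 1) ∨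
      orderOf g ∣ (Fintype.card F + 1) / Nat.gcd 2 (Fintype.card F - 1) := by
  obtain ⟨A, rfl⟩ := QuotientGroup.mk_surjective g
  let K := AlgebraicClosure F
  let f : F →+* K := algebraMap F K
  set t := f (A : Matrix (Fin 2) (Fin 2) F).trace with ht
  obtain ⟨l, hl⟩ := IsAlgClosed.exists_root
    (Polynomial.X ^ 2 - Polynomial.C t * Polynomial.X + 1 : Polynomial K) (by
      have : (Polynomial.X ^ 2 - Polynomial.C t * Polynomial.X + 1 : Polynomial K).degree = 2 := by
        compute_degree!
      rw [this]; exact two_ne_zero)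
  simp only [Polynomial.IsRoot, Polynomial.eval_add, Polynomial.eval_sub, Polynomial.eval_pow,
    Polynomial.eval_X, Polynomial.eval_mul, Polynomial.eval_C, Polynomial.eval_one] at hl
  have hl1 : l * (t - l) = 1 := by linear_combination -hl
  have hl0 : l ≠ 0 := fun h => by rw [h, zero_mul] at hl1; exact zero_ne_one hl1
  by_cases hlm : l = t - l
  · refine Or.inl (orderOf_dvd_of_pow_eq_one ?_)
    rw [← QuotientGroup.mk_pow, mk_eq_one_iff]
    haveI : CharP K p := charP_of_injective_algebraMap f.injective p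
    haveI : CharP (Matrix (Fin 2) (Fin 2) K) p := Matrix.charP p
    set B := f.mapMatrix (A : Matrix (Fin 2) (Fin 2) F)
    have hsq : (B - l • 1) * (B - l • 1) = 0 := by
      have := quad_zero f A l hl1
      rwa [← ht, ← hlm] at this
    have hp0 : (B - l • 1) ^ p = 0 := by
      rw [← Nat.add_sub_cancel' hp.out.two_le, pow_add, pow_two, hsq, zero_mul]
    rw [sub_pow_char_of_commute p ((Commute.one_right B).smul_right l), _root_.smul_pow, one_pow,
      sub_eq_zero] at hp0
    refine ⟨((A ^ p : Matrix.SpecialLinearGroup (Fin 2) F) : Matrix (Fin 2) (Fin 2) F) 0 0, ?_⟩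
    have hinj : ∀ i j, f (((A ^ p : Matrix.SpecialLinearGroup (Fin 2) F) : Matrix (Fin 2) (Fin 2) F) i j) =
        (if i = j then l ^ p else 0) := fun i j => by
      have := congrFun (congrFun hp0 i) j
      rw [Matrix.SpecialLinearGroup.coe_pow]
      rw [show B ^ p = f.mapMatrix ((A : Matrix (Fin 2) (Fin 2) F) ^ p) from (map_pow _ _ _).symm] at this
      simp only [RingHom.mapMatrix_apply, Matrix.map_apply, Matrix.smul_apply,
        Matrix.one_apply, smul_eq_mul, mul_ite, mul_one, mul_zero] at this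
      exact this
    rw [Matrix.SpecialLinearGroup.coe_pow] at hinj ⊢
    ext i j
    apply f.injective
    fin_cases i <;> fin_cases j <;> simp [hinj]
  · rw [orderOf_mk f A l hl1 hlm]
    set q := Fintype.card F
    have hfr : (l ^ q) ^ 2 - t * l ^ q + 1 = 0 := by
      obtain ⟨n, -, hn⟩ := FiniteField.card F p
      haveI : CharP K p := charP_of_injective_algebraMap f.injective p
      have h := congrArg (iterateFrobenius K p n) hl
      simp only [map_add, map_sub, map_mul, map_pow, map_one, map_zero, iterateFrobenius_def] at h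
      have htq : t ^ q = t := by rw [ht, ← map_pow, FiniteField.pow_card]
      rw [show p ^ (n : ℕ) = q from hn.symm] at h
      rw [htq] at h
      exact h
    have hd := gcd_dvd F
    rcases mul_eq_zero.1 (show (l ^ q - l) * (l ^ q - (t - l)) = 0 by linear_combination hfr - hl) with h | h
    · refine Or.inr (Or.inl (orderOf_dvd_of_pow_eq_one ?_))
      have h1 : l ^ (q - 1) = 1 := by
        apply mul_right_cancel₀ hl0
        rw [one_mul, ← pow_succ, Nat.sub_add_cancel Fintype.one_lt_card.le]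
        exact sub_eq_zero.1 h
      rcases (Nat.dvd_prime Nat.prime_two).1 (Nat.gcd_dvd_left 2 (q - 1)) with hd2 | hd2 <;> rw [hd2]
      · rw [Nat.div_one, mul_pow, h1, one_mul]
      · rw [← pow_two, ← pow_mul, Nat.mul_div_cancel' (hd2 ▸ hd.1), h1]
    · refine Or.inr (Or.inr (orderOf_dvd_of_pow_eq_one ?_))
      have h1 : l ^ (q + 1) = 1 := by
        rw [pow_succ, sub_eq_zero.1 h, mul_comm]; exact hl1
      rcases (Nat.dvd_prime Nat.prime_two).1 (Nat.gcd_dvd_left 2 (q - 1)) with hd2 | hd2 <;> rw [hd2]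
      · rw [Nat.div_one, mul_pow, h1, one_mul]
      · rw [← pow_two, ← pow_mul, Nat.mul_div_cancel' (hd2 ▸ hd.2), h1]

/-- A unipotent element of order `p`. -/
theorem exists_orderOf_p : ∃ g : ProjectiveSpecialLinearGroup (Fin 2) F, orderOf g = p := by
  let u : Matrix.SpecialLinearGroup (Fin 2) F := ⟨!![1, 1; 0, 1], by simp [det_fin_two]⟩
  refine ⟨QuotientGroup.mk u, orderOf_eq_prime ?_ ?_⟩
  · have h : ∀ n : ℕ, ((u ^ n : Matrix.SpecialLinearGroup (Fin 2) F) : Matrix (Fin 2) (Fin 2) F) = !![1, (n : F); 0, 1] := by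
      intro n
      induction n with
      | zero => simp [Matrix.one_fin_two]
      | succ n ih =>
        rw [pow_succ, Matrix.SpecialLinearGroup.coe_mul, ih]
        simp [u, Matrix.mul_fin_two, Nat.cast_succ, add_comm]
    rw [← QuotientGroup.mk_pow, mk_eq_one_iff]
    exact ⟨1, by rw [h, CharP.cast_eq_zero, one_smul, Matrix.one_fin_two]⟩
  · rw [Ne, mk_eq_one_iff]
    rintro ⟨c, hc⟩
    have := congrFun (congrFun hc 0) 1
    simp [u] at this

/-- A split torus element. -/
theorem exists_orderOf_minus :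
    ∃ g : ProjectiveSpecialLinearGroup (Fin 2) F,
      orderOf g = (Fintype.card F - 1) / Nat.gcd 2 (Fintype.card F - 1) := by
  obtain ⟨a, ha⟩ := IsCyclic.exists_ofOrder_eq_natCard (α := Fˣ)
  have hord : orderOf (a : F) = Fintype.card F - 1 := by
    rw [orderOf_units, ha, Nat.card_units, Nat.card_eq_fintype_card]
  have hsq : orderOf ((a : F) * a) = (Fintype.card F - 1) / Nat.gcd 2 (Fintype.card F - 1) := by
    rw [← pow_two, orderOf_pow' _ two_ne_zero, hord, Nat.gcd_comm]
  by_cases h : (a : F) * a = 1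
  · exact ⟨1, by rw [orderOf_one, ← hsq, h, orderOf_one]⟩
  let A : Matrix.SpecialLinearGroup (Fin 2) F := ⟨!![(a : F), 0; 0, ((a⁻¹ : Fˣ) : F)], by simp [det_fin_two]⟩
  refine ⟨QuotientGroup.mk A, ?_⟩
  have htr : RingHom.id F (A : Matrix (Fin 2) (Fin 2) F).trace - a = ((a⁻¹ : Fˣ) : F) := by
    simp [A, trace_fin_two]
  rw [orderOf_mk (RingHom.id F) A (a : F) (by rw [htr]; simp) ?_, hsq]
  rw [htr]
  intro h'
  apply h
  nth_rw 2 [h']
  simp

/-- A nonsplit torus element. -/
theorem exists_orderOf_plus (p : ℕ) [hp : Fact p.Prime] [CharP F p] :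
    ∃ g : ProjectiveSpecialLinearGroup (Fin 2) F,
      orderOf g = (Fintype.card F + 1) / Nat.gcd 2 (Fintype.card F - 1) := by
  let K := AlgebraicClosure F
  let f : F →+* K := algebraMap F K
  set q := Fintype.card F
  haveI : CharP K p := charP_of_injective_algebraMap f.injective p
  haveI : NeZero ((q + 1 : ℕ) : K) := ⟨by
    rw [Ne, CharP.cast_eq_zero_iff K p]
    intro h
    obtain ⟨n, -, hn⟩ := FiniteField.card F p
    have : p ∣ q := by
      rw [show q = p ^ (n : ℕ) from hn]; exact dvd_pow_self p n.pos.ne'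
    exact hp.out.one_lt.ne' (Nat.dvd_one.1 ((Nat.dvd_add_right this).1 h))⟩
  obtain ⟨z, hz⟩ := IsAlgClosed.exists_root (Polynomial.cyclotomic (q + 1) K)
    (Polynomial.degree_cyclotomic_pos _ _ (Nat.succ_pos _)).ne'
  replace hz := Polynomial.isRoot_cyclotomic_iff.1 hz
  have hz1 : z ^ q * z = 1 := by rw [← pow_succ]; exact hz.pow_eq_one
  have hzq : (z + z ^ q) ^ q = z + z ^ q := by
    obtain ⟨n, -, hn⟩ := FiniteField.card F p
    have h := map_add (iterateFrobenius K p n) z (z ^ q)
    simp only [iterateFrobenius_def, show p ^ (n : ℕ) = q from hn.symm] at h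
    have hqq : (z ^ q) ^ q = z := by
      apply mul_right_cancel₀ (b := z ^ q) (by intro h0; rw [h0, zero_mul] at hz1; exact zero_ne_one hz1)
      rw [mul_comm z (z ^ q), hz1, ← mul_pow, hz1, one_pow]
    rw [h, hqq, add_comm]
  obtain ⟨t, ht⟩ := mem_range_of_pow_card f hzq
  let A : Matrix.SpecialLinearGroup (Fin 2) F := ⟨!![0, -1; 1, t], by simp [det_fin_two]⟩
  refine ⟨QuotientGroup.mk A, ?_⟩
  have htr : f (A : Matrix (Fin 2) (Fin 2) F).trace - z = z ^ q := by
    simp [A, trace_fin_two, ht]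
  have hne : z ≠ z ^ q := by
    intro h
    rw [← h, ← pow_two] at hz1
    have h2 := Nat.le_of_dvd two_pos ((hz.eq_orderOf).symm ▸ orderOf_dvd_of_pow_eq_one hz1)
    have h3 : 1 < q := Fintype.one_lt_card
    omega
  rw [orderOf_mk f A z (by rw [htr, mul_comm]; exact hz1) (by rw [htr]; exact hne), ← pow_two,
    orderOf_pow' _ two_ne_zero, ← hz.eq_orderOf, gcd_eq F]

/-- The spectrum of `PSL(2,q)`. -/
theorem spectrum : Set.range (orderOf : ProjectiveSpecialLinearGroup (Fin 2) F → ℕ) =
    {n | n ∣ p ∨ n ∣ (Fintype.card F - 1) / Nat.gcd 2 (Fintype.card F - 1) ∨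
      n ∣ (Fintype.card F + 1) / Nat.gcd 2 (Fintype.card F - 1)} := by
  ext n
  constructor
  · rintro ⟨g, rfl⟩; exact orderOf_dvd p g
  · rintro (h | h | h)
    · obtain ⟨g, hg⟩ := exists_orderOf_p (F := F) p
      exact mem_range_orderOf_of_dvd (hg ▸ h)
    · obtain ⟨g, hg⟩ := exists_orderOf_minus (F := F)
      exact mem_range_orderOf_of_dvd (hg ▸ h)
    · obtain ⟨g, hg⟩ := exists_orderOf_plus (F := F) p
      exact mem_range_orderOf_of_dvd (hg ▸ h)

end CfsgLib.PSL2Spec
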