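import Mathlib

/-!
Groups with the same prime graph as a given group `G`: semidirect products `V^k ⋊ G`,
where `V` is a `p`-group on which elements of order prime to `p` act without fixed points.
-/

set_option autoImplicit false

namespace CfsgLib.PrimeGraph

/-- Every finite group has a copy in `Type`. -/
theorem exists_type0_copy (G : Type*) [Group G] [Finite G] :
    ∃ (H : Type) (_ : Group H) (_ : Fintype H), Nonempty (H ≃* G) := by
  let e : Fin (Nat.card G) ≃ G := (Finite.equivFin G).symm
  letI : Group (Fin (Nat.card G)) := e.group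
  exact ⟨Fin (Nat.card G), inferInstance, inferInstance, ⟨e.mulEquiv⟩⟩

theorem exists_orderOf_iff {G H : Type*} [Group G] [Group H] (e : G ≃* H) (n : ℕ) :
    (∃ x : G, orderOf x = n) ↔ ∃ y : H, orderOf y = n :=
  ⟨fun ⟨x, hx⟩ => ⟨e x, by rw [e.orderOf_eq, hx]⟩, fun ⟨y, hy⟩ => ⟨e.symm y, by rw [e.symm.orderOf_eq, hy]⟩⟩

/-- The diagonal action on a power. -/
def piAut {G M : Type*} [Group G] [Group M] (φ : G →* MulAut M) (k : ℕ) :
    G →* MulAut (Fin k → M) where
  toFun g := MulEquiv.piCongrRight fun _ => φ g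
  map_one' := by ext v i; simp
  map_mul' g h := by ext v i; simp

theorem piAut_apply {G M : Type*} [Group G] [Group M] (φ : G →* MulAut M) (k : ℕ) (g : G)
    (v : Fin k → M) (i : Fin k) : piAut φ k g v i = φ g (v i) := rfl

/-- No new edges appear in `M ⋊ G`. -/
theorem exists_orderOf_right {G M : Type*} [Group G] [Finite G] [CommGroup M] [Finite M]
    {p : ℕ} (hp : p.Prime) (hM : IsPGroup p M) (φ : G →* MulAut M)
    (hfpf : ∀ g : G, (orderOf g).Prime → orderOf g ≠ p → ∀ m : M, φ g m = m → m = 1)
    {r s : ℕ} (hr : r.Prime) (hs : s.Prime) (hrs : r ≠ s)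
    (y : M ⋊[φ] G) (hy : orderOf y = r * s) : ∃ g : G, orderOf g = r * s := by
  have hker : ∀ z : M ⋊[φ] G, z.right = 1 → ∀ q : ℕ, q.Prime → orderOf z = q → q = p := by
    intro z hz q hq hzq
    have h1 : z = SemidirectProduct.inl z.left := by
      apply SemidirectProduct.ext <;> simp [hz]
    have h2 : orderOf z.left = q := by
      rw [← hzq]
      conv_rhs => rw [h1, orderOf_injective SemidirectProduct.inl SemidirectProduct.inl_injective]
    obtain ⟨n, hn⟩ := hM z.left
    replace hn := orderOf_dvd_of_pow_eq_one hn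
    rw [h2] at hn
    exact (Nat.prime_dvd_prime_iff_eq hq hp).1 (hq.dvd_of_dvd_pow hn)
  have main : ∀ a b : ℕ, a.Prime → b.Prime → a ≠ b → orderOf y = a * b →
      y.right ^ a = 1 → False := by
    intro a b ha hb hab hyab hra
    have h1 : orderOf (y ^ a) = b := by
      rw [orderOf_pow' _ ha.ne_zero, hyab, Nat.gcd_eq_right (dvd_mul_right a b),
        Nat.mul_div_cancel_left _ ha.pos]
    have hy1 : (y ^ a).right = 1 := by
      rw [← SemidirectProduct.rightHom_eq_right, map_pow, SemidirectProduct.rightHom_eq_right, hra]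
    have hbp : b = p := hker _ hy1 b hb h1
    have h2 : orderOf (y ^ b) = a := by
      rw [orderOf_pow' _ hb.ne_zero, hyab, Nat.gcd_eq_right (dvd_mul_left b a),
        Nat.mul_div_cancel _ hb.pos]
    have hne : (y ^ b).right ≠ 1 := fun h => hab ((hker _ h a ha h2).trans hbp.symm)
    have hg : orderOf (y ^ b).right = a := by
      haveI : Fact a.Prime := ⟨ha⟩
      refine orderOf_eq_prime ?_ hne
      rw [← SemidirectProduct.rightHom_eq_right, ← map_pow, ← h2, pow_orderOf_eq_one, map_one]
    have hc : y ^ a * y ^ b = y ^ b * y ^ a := by rw [← pow_add, ← pow_add, add_comm]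
    have hl := congrArg SemidirectProduct.left hc
    simp only [SemidirectProduct.mul_left, hy1, map_one, MulAut.one_apply] at hl
    rw [mul_comm] at hl
    have hfix := hfpf (y ^ b).right (hg ▸ ha) (by rw [hg]; exact hbp ▸ hab) (y ^ a).left
      (mul_left_cancel hl).symm
    have : y ^ a = 1 := by
      apply SemidirectProduct.ext
      · simpa using hfix
      · simpa using hy1
    rw [this, orderOf_one] at h1
    exact hb.one_lt.ne h1
  refine ⟨y.right, ?_⟩
  have hd : orderOf y.right ∣ r * s := hy ▸ orderOf_map_dvd SemidirectProduct.rightHom y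
  have hr' : ¬ orderOf y.right ∣ r := fun h =>
    main r s hr hs hrs hy (orderOf_dvd_iff_pow_eq_one.1 h)
  have hs' : ¬ orderOf y.right ∣ s := fun h =>
    main s r hs hr hrs.symm (by rw [hy, mul_comm]) (orderOf_dvd_iff_pow_eq_one.1 h)
  have h1 : r ∣ orderOf y.right := by
    rcases Classical.em (r ∣ orderOf y.right) with h | h
    · exact h
    · exact absurd (((hr.coprime_iff_not_dvd.2 h).symm).dvd_of_dvd_mul_left hd) hs'
  have h2 : s ∣ orderOf y.right := by
    by_contra h
    exact hr' (((hs.coprime_iff_not_dvd.2 h).symm).dvd_of_dvd_mul_right hd)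
  exact Nat.dvd_antisymm hd (((Nat.coprime_primes hr hs).2 hrs).mul_dvd_of_dvd_of_dvd h1 h2)

/-- Groups of unbounded order with the prime graph of `G`. -/
theorem exists_large_same_graph {G M : Type*} [Group G] [Finite G] [CommGroup M] [Finite M]
    [Nontrivial M] {p : ℕ} (hp : p.Prime) (hpG : p ∣ Nat.card G) (hM : IsPGroup p M)
    (φ : G →* MulAut M)
    (hfpf : ∀ g : G, (orderOf g).Prime → orderOf g ≠ p → ∀ m : M, φ g m = m → m = 1) (N : ℕ) :
    ∃ (H : Type) (_ : Group H) (_ : Fintype H), N < Nat.card H ∧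
      (∀ r : ℕ, r.Prime → (r ∣ Nat.card G ↔ r ∣ Nat.card H)) ∧
      (∀ r s : ℕ, r.Prime → s.Prime → r ≠ s →
        ((∃ x : G, orderOf x = r * s) ↔ ∃ y : H, orderOf y = r * s)) := by
  haveI : Fact p.Prime := ⟨hp⟩
  let k := N + 1
  haveI : Finite ((Fin k → M) ⋊[piAut φ k] G) := Finite.of_equiv _ SemidirectProduct.equivProd.symm
  obtain ⟨H, _, _, ⟨e⟩⟩ := exists_type0_copy ((Fin k → M) ⋊[piAut φ k] G)
  have hMk : IsPGroup p (Fin k → M) := by
    obtain ⟨n, hn⟩ := IsPGroup.iff_card.1 hM
    refine IsPGroup.of_card (n := n * k) ?_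
    rw [Nat.card_pi, Finset.prod_const, Finset.card_univ, Fintype.card_fin, hn, pow_mul]
  have hcard : Nat.card H = Nat.card (Fin k → M) * Nat.card G :=
    (Nat.card_congr e.toEquiv).trans SemidirectProduct.card
  refine ⟨H, inferInstance, inferInstance, ?_, ?_, ?_⟩
  · have h2 : 2 ≤ Nat.card M := Finite.one_lt_card
    have hk : N < 2 ^ k := (Nat.lt_succ_self N).trans Nat.lt_two_pow_self
    have hk' : 2 ^ k ≤ Nat.card (Fin k → M) := by
      rw [Nat.card_pi, Finset.prod_const, Finset.card_univ, Fintype.card_fin]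
      exact Nat.pow_le_pow_left h2 k
    rw [hcard]
    exact lt_of_lt_of_le hk (hk'.trans (Nat.le_mul_of_pos_right _ Nat.card_pos))
  · intro r hr
    rw [hcard, hr.dvd_mul]
    refine ⟨Or.inr, fun h => h.elim (fun h => ?_) id⟩
    obtain ⟨n, hn⟩ := IsPGroup.iff_card.1 hMk
    rw [hn] at h
    exact ((Nat.prime_dvd_prime_iff_eq hr hp).1 (hr.dvd_of_dvd_pow h)).symm ▸ hpG
  · intro r s hr hs hrs
    constructor
    · rintro ⟨x, hx⟩
      exact ⟨e.symm (SemidirectProduct.inr x), by
        rw [e.symm.orderOf_eq, orderOf_injective SemidirectProduct.inr SemidirectProduct.inr_injective, hx]⟩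
    · rintro ⟨y, hy⟩
      refine exists_orderOf_right hp hMk (piAut φ k) (fun g hg hgp v hv => ?_) hr hs hrs (e y)
        (by rw [e.orderOf_eq, hy])
      funext i
      exact hfpf g hg hgp (v i) (congrFun hv i)

/-- The action of `GL` on column vectors, multiplicatively written. -/
def glAct (F ι : Type*) [CommRing F] [Fintype ι] [DecidableEq ι] :
    GL ι F →* MulAut (Multiplicative (ι → F)) where
  toFun g :=
    { toFun := fun v => Multiplicative.ofAdd ((g : Matrix ι ι F).mulVec v.toAdd)
      invFun := fun v => Multiplicative.ofAdd (((g⁻¹ : GL ι F) : Matrix ι ι F).mulVec v.toAdd)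
      left_inv := fun v => by simp
      right_inv := fun v => by simp
      map_mul' := fun v w => by simp [Matrix.mulVec_add] }
  map_one' := by ext v; simp
  map_mul' g h := by ext v; simp [Matrix.mulVec_mulVec]

theorem glAct_fix {F ι : Type*} [CommRing F] [Fintype ι] [DecidableEq ι] {g : GL ι F}
    {v : Multiplicative (ι → F)} (h : glAct F ι g v = v) :
    (g : Matrix ι ι F).mulVec v.toAdd = v.toAdd :=
  congrArg Multiplicative.toAdd h

theorem isPGroup_vectors (F ι : Type*) [Ring F] (p : ℕ) [Fact p.Prime] [CharP F p] :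
    IsPGroup p (Multiplicative (ι → F)) := by
  intro v
  refine ⟨1, ?_⟩
  apply Multiplicative.toAdd.injective
  rw [toAdd_pow, toAdd_one, pow_one]
  funext i
  simp

end CfsgLib.PrimeGraph
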