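import Mathlib
import Cfsg.Agent.PrimeGraph.Basic
import Cfsg.Agent.PrimeGraph.PSL2Spectrum

/-!
`V^k ⋊ SL(2,2^n)` has the prime graph of `PSL(2,2^n)`.
-/

set_option autoImplicit false

namespace CfsgLib.SL2Char2

open Matrix

variable {F : Type*} [Field F] [Fintype F] [CharP F 2]

omit [Fintype F] in
theorem sq_eq_one_of_fixed (A : Matrix.SpecialLinearGroup (Fin 2) F) (v : Fin 2 → F) (hv : v ≠ 0)
    (h : (A : Matrix (Fin 2) (Fin 2) F) *ᵥ v = v) : A ^ 2 = 1 := by
  have two : (2 : F) = 0 := CharTwo.two_eq_zero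
  have h1 : ((A : Matrix (Fin 2) (Fin 2) F) - 1).det = 0 :=
    Matrix.exists_mulVec_eq_zero_iff.1 ⟨v, hv, by simp [Matrix.sub_mulVec, h]⟩
  have hd : (A : Matrix (Fin 2) (Fin 2) F) 0 0 * (A : Matrix (Fin 2) (Fin 2) F) 1 1 -
      (A : Matrix (Fin 2) (Fin 2) F) 0 1 * (A : Matrix (Fin 2) (Fin 2) F) 1 0 = 1 := by
    rw [← det_fin_two]; exact A.2
  simp [det_fin_two] at h1
  have ht : (A : Matrix (Fin 2) (Fin 2) F) 0 0 + (A : Matrix (Fin 2) (Fin 2) F) 1 1 = 0 := by
    linear_combination -h1 + hd + two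
  ext i j
  rw [sq, Matrix.SpecialLinearGroup.coe_mul, Matrix.SpecialLinearGroup.coe_one]
  fin_cases i <;> fin_cases j <;> simp [Matrix.mul_apply, Fin.sum_univ_two]
  · linear_combination (A : Matrix (Fin 2) (Fin 2) F) 0 0 * ht - hd - two
  · linear_combination (A : Matrix (Fin 2) (Fin 2) F) 0 1 * ht
  · linear_combination (A : Matrix (Fin 2) (Fin 2) F) 1 0 * ht
  · linear_combination (A : Matrix (Fin 2) (Fin 2) F) 1 1 * ht - hd - two

omit [Fintype F] in
theorem mk_bijective : Function.Bijective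
    (QuotientGroup.mk : Matrix.SpecialLinearGroup (Fin 2) F → Matrix.ProjectiveSpecialLinearGroup (Fin 2) F) := by
  refine ⟨?_, QuotientGroup.mk_surjective⟩
  intro A B h
  have h1 : (QuotientGroup.mk' (Subgroup.center (Matrix.SpecialLinearGroup (Fin 2) F))) (A⁻¹ * B) = 1 := by
    rw [map_mul, map_inv]
    exact inv_mul_eq_one.2 h
  obtain ⟨c, hc⟩ := (CfsgLib.PSL2Spec.mk_eq_one_iff _).1 h1
  have hd := (A⁻¹ * B).2
  rw [hc] at hd
  simp at hd
  have hc1 : c = 1 := hd.elim id fun h => h.trans (CharTwo.neg_eq 1)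
  rw [← inv_mul_eq_one]
  exact Subtype.ext (by rw [hc, hc1, one_smul]; rfl)

/-- `SL(2,F) ≅ PSL(2,F)` in characteristic two. -/
noncomputable def slEquivPSL :
    Matrix.SpecialLinearGroup (Fin 2) F ≃* Matrix.ProjectiveSpecialLinearGroup (Fin 2) F :=
  MulEquiv.ofBijective (QuotientGroup.mk' (Subgroup.center (Matrix.SpecialLinearGroup (Fin 2) F))) mk_bijective

theorem large_same_graph (N : ℕ) :
    ∃ (H : Type) (_ : Group H) (_ : Fintype H), N < Nat.card H ∧
      (∀ r : ℕ, r.Prime → (r ∣ Nat.card (Matrix.ProjectiveSpecialLinearGroup (Fin 2) F) ↔ r ∣ Nat.card H)) ∧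
      (∀ r s : ℕ, r.Prime → s.Prime → r ≠ s →
        ((∃ x : Matrix.ProjectiveSpecialLinearGroup (Fin 2) F, orderOf x = r * s) ↔ ∃ y : H, orderOf y = r * s)) := by
  have : Fact (Nat.Prime 2) := ⟨Nat.prime_two⟩
  have e := slEquivPSL (F := F)
  have h2 : 2 ∣ Nat.card (Matrix.SpecialLinearGroup (Fin 2) F) := by
    obtain ⟨g, hg⟩ := CfsgLib.PSL2Spec.exists_orderOf_p (F := F) 2
    have := orderOf_dvd_natCard g
    rw [hg, ← Nat.card_congr e.toEquiv] at this
    exact this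
  obtain ⟨H, _, _, h0, h1, h2'⟩ := CfsgLib.PrimeGraph.exists_large_same_graph Nat.prime_two h2
    (CfsgLib.PrimeGraph.isPGroup_vectors F (Fin 2) 2)
    ((CfsgLib.PrimeGraph.glAct F (Fin 2)).comp Matrix.SpecialLinearGroup.toGL)
    (fun g hg hg2 v hv => by
      by_contra hne
      have h := sq_eq_one_of_fixed g v.toAdd (fun h => hne (Multiplicative.toAdd.injective h))
        (CfsgLib.PrimeGraph.glAct_fix hv)
      exact hg2 ((Nat.prime_dvd_prime_iff_eq hg Nat.prime_two).1 (orderOf_dvd_of_pow_eq_one h))) N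
  refine ⟨H, inferInstance, inferInstance, h0, fun r hr => ?_, fun r s hr hs hrs => ?_⟩
  · rw [← Nat.card_congr e.toEquiv]; exact h1 r hr
  · rw [← CfsgLib.PrimeGraph.exists_orderOf_iff e]; exact h2' r s hr hs hrs

end CfsgLib.SL2Char2
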