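import Mathlib
import Cfsg.Prelude.Def_Sz

/-!
Odd-order elements of the Suzuki group (as defined in `Def_Sz`) fix no nonzero vector of the natural module.
-/

set_option autoImplicit false

namespace CfsgLib.SzFix

open Matrix Polynomial

variable {F : Type*} [Field F]

def J4 : Matrix (Fin 4) (Fin 4) F := !![0,0,0,1;0,0,1,0;0,1,0,0;1,0,0,0]

theorem form_of_mem {g : GL (Fin 4) F} (hg : g ∈ Cfsg.Lie.Sp4 F) (i j : Fin 4) :
    (g : Matrix (Fin 4) (Fin 4) F) 0 i * g 3 j + g 1 i * g 2 j + g 2 i * g 1 j + g 3 i * g 0 j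
      = (J4 : Matrix (Fin 4) (Fin 4) F) i j := by
  have h : Cfsg.Lie.altForm4 ((g : Matrix (Fin 4) (Fin 4) F) *ᵥ Pi.single i 1)
      ((g : Matrix (Fin 4) (Fin 4) F) *ᵥ Pi.single j 1)
      = Cfsg.Lie.altForm4 (Pi.single i (1 : F)) (Pi.single j 1) := hg _ _
  simp only [mulVec_single_one, Cfsg.Lie.altForm4, col_apply] at h
  rw [h]
  fin_cases i <;> fin_cases j <;> simp [J4]

theorem transpose_form {g : GL (Fin 4) F} (hg : g ∈ Cfsg.Lie.Sp4 F) :
    (g : Matrix (Fin 4) (Fin 4) F)ᵀ * J4 * (g : Matrix (Fin 4) (Fin 4) F) = J4 := by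
  ext i j
  rw [← form_of_mem hg i j]
  simp [Matrix.mul_apply, Fin.sum_univ_four, J4]
  ring

theorem J4_mul_J4 : (J4 : Matrix (Fin 4) (Fin 4) F) * J4 = 1 := by
  ext i j
  fin_cases i <;> fin_cases j <;> simp [J4, Matrix.mul_apply, Fin.sum_univ_four]

theorem inv_eq {g : GL (Fin 4) F} (hg : g ∈ Cfsg.Lie.Sp4 F) :
    J4 * (g : Matrix (Fin 4) (Fin 4) F)ᵀ * J4 * (g : Matrix (Fin 4) (Fin 4) F) = 1 := by
  rw [Matrix.mul_assoc J4, Matrix.mul_assoc J4, transpose_form hg, J4_mul_J4]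

theorem form_rows {g : GL (Fin 4) F} (hg : g ∈ Cfsg.Lie.Sp4 F) (k l : Fin 4) :
    (g : Matrix (Fin 4) (Fin 4) F) k 0 * g l 3 + g k 1 * g l 2 + g k 2 * g l 1 + g k 3 * g l 0
      = (J4 : Matrix (Fin 4) (Fin 4) F) k l := by
  have h : (g : Matrix (Fin 4) (Fin 4) F) * (J4 * (g : Matrix (Fin 4) (Fin 4) F)ᵀ * J4) = 1 :=
    mul_eq_one_comm.1 (inv_eq hg)
  have h2 : (g : Matrix (Fin 4) (Fin 4) F) * J4 * (g : Matrix (Fin 4) (Fin 4) F)ᵀ = J4 := by
    have := congrArg (· * (J4 : Matrix (Fin 4) (Fin 4) F)) h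
    simp only [Matrix.mul_assoc, J4_mul_J4, Matrix.one_mul, Matrix.mul_one] at this
    rwa [Matrix.mul_assoc]
  conv_rhs => rw [← h2]
  simp [Matrix.mul_apply, Fin.sum_univ_four, J4]
  ring

theorem minor_mul [CharP F 2] (G H : Matrix (Fin 4) (Fin 4) F) (k l i j : Fin 4)
    (hr : G k 0 * G l 3 + G k 1 * G l 2 + G k 2 * G l 1 + G k 3 * G l 0 = 0)
    (hc : H 0 i * H 3 j + H 1 i * H 2 j + H 2 i * H 1 j + H 3 i * H 0 j = 0) :
    (G * H) k i * (G * H) l j - (G * H) l i * (G * H) k j =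
      (G k 0 * G l 1 - G l 0 * G k 1) * (H 0 i * H 1 j - H 1 i * H 0 j) +
      (G k 0 * G l 2 - G l 0 * G k 2) * (H 0 i * H 2 j - H 2 i * H 0 j) +
      (G k 1 * G l 3 - G l 1 * G k 3) * (H 1 i * H 3 j - H 3 i * H 1 j) +
      (G k 2 * G l 3 - G l 2 * G k 3) * (H 2 i * H 3 j - H 3 i * H 2 j) := by
  have two : (2 : F) = 0 := CharTwo.two_eq_zero
  simp only [Matrix.mul_apply, Fin.sum_univ_four, CharTwo.sub_eq_add]
  linear_combination (G k 0 * G l 3 + G l 0 * G k 3) * hc + (H 1 i * H 2 j + H 2 i * H 1 j) * hr +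
    (G k 0 * G l 0 * H 0 i * H 0 j + G k 1 * G l 1 * H 1 i * H 1 j + G k 2 * G l 2 * H 2 i * H 2 j +
      G k 3 * G l 3 * H 3 i * H 3 j -
      (G k 0 * G l 3 + G l 0 * G k 3) * (H 1 i * H 2 j + H 2 i * H 1 j)) * two

theorem star_mul [CharP F 2] {g h : GL (Fin 4) F} (hg : g ∈ Cfsg.Lie.Sp4 F) (hh : h ∈ Cfsg.Lie.Sp4 F) :
    Cfsg.Lie.star4 ((g : Matrix (Fin 4) (Fin 4) F) * (h : Matrix (Fin 4) (Fin 4) F)) =
      Cfsg.Lie.star4 (g : Matrix (Fin 4) (Fin 4) F) * Cfsg.Lie.star4 (h : Matrix (Fin 4) (Fin 4) F) := by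
  ext p r
  have hJ : ∀ q : Fin 4, (J4 : Matrix (Fin 4) (Fin 4) F) (Cfsg.Lie.pairOf q).1 (Cfsg.Lie.pairOf q).2 = 0 := by
    intro q; fin_cases q <;> simp [J4, Cfsg.Lie.pairOf]
  have := minor_mul (g : Matrix (Fin 4) (Fin 4) F) (h : Matrix (Fin 4) (Fin 4) F)
    (Cfsg.Lie.pairOf p).1 (Cfsg.Lie.pairOf p).2 (Cfsg.Lie.pairOf r).1 (Cfsg.Lie.pairOf r).2
    ((form_rows hg _ _).trans (hJ p)) ((form_of_mem hh _ _).trans (hJ r))
  simp only [Cfsg.Lie.star4, Matrix.of_apply]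
  rw [this, Matrix.mul_apply]
  simp [Fin.sum_univ_four, Cfsg.Lie.pairOf]

theorem star_one : Cfsg.Lie.star4 (1 : Matrix (Fin 4) (Fin 4) F) = 1 := by
  ext p r
  fin_cases p <;> fin_cases r <;> simp [Cfsg.Lie.star4, Cfsg.Lie.pairOf, Matrix.one_apply]

theorem mem_iff [CharP F 2] [Fintype F] {e : ℕ} (hinj : ∃ f : F →+* F, ∀ x, f x = x ^ e)
    {g : GL (Fin 4) F} (hg : g ∈ Cfsg.Lie.Sz F e) :
    g ∈ Cfsg.Lie.Sp4 F ∧
      Cfsg.Lie.star4 (g : Matrix (Fin 4) (Fin 4) F) = (g : Matrix (Fin 4) (Fin 4) F).map (fun x => x ^ e) := by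
  obtain ⟨f, hf⟩ := hinj
  have hmap : ∀ A : Matrix (Fin 4) (Fin 4) F, A.map (fun x => x ^ e) = f.mapMatrix A := by
    intro A; ext i j; simp [hf]
  let S : Submonoid (GL (Fin 4) F) :=
    { carrier := {g | g ∈ Cfsg.Lie.Sp4 F ∧
        Cfsg.Lie.star4 (g : Matrix (Fin 4) (Fin 4) F) = (g : Matrix (Fin 4) (Fin 4) F).map (fun x => x ^ e)}
      one_mem' := ⟨one_mem _, by rw [Units.val_one, star_one, hmap, map_one]⟩
      mul_mem' := fun {a b} ha hb => ⟨mul_mem ha.1 hb.1, by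
        rw [Units.val_mul, star_mul ha.1 hb.1, ha.2, hb.2, hmap, hmap, hmap, map_mul]⟩ }
  change g ∈ Subgroup.closure (S : Set (GL (Fin 4) F)) at hg
  induction hg using Subgroup.closure_induction with
  | mem x hx => exact hx
  | one => exact S.one_mem
  | mul x y _ _ hx hy => exact S.mul_mem hx hy
  | inv x _ hx =>
    have : x⁻¹ ∈ Submonoid.powers x := by
      rw [mem_powers_iff_mem_zpowers]
      exact inv_mem (Subgroup.mem_zpowers x)
    obtain ⟨n, hn⟩ := this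
    change x⁻¹ ∈ S
    rw [← hn]
    exact S.pow_mem hx n

/-- The characteristic polynomial expansion in degree 4. -/
theorem det_four_sub {R : Type*} [CommRing R] (x : R) (B : Matrix (Fin 4) (Fin 4) R) :
    (x • (1 : Matrix (Fin 4) (Fin 4) R) - B).det = x ^ 4 - B.trace * x ^ 3 +
      ((B 0 0 * B 1 1 - B 1 0 * B 0 1) + (B 0 0 * B 2 2 - B 2 0 * B 0 2) +
       (B 1 1 * B 3 3 - B 3 1 * B 1 3) + (B 2 2 * B 3 3 - B 3 2 * B 2 3) +
       (B 0 0 * B 3 3 - B 3 0 * B 0 3) + (B 1 1 * B 2 2 - B 2 1 * B 1 2)) * x ^ 2 -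
      B.adjugate.trace * x + B.det := by
  simp [Matrix.det_succ_row_zero, Matrix.trace, Matrix.adjugate_fin_succ_eq_det_submatrix,
    Fin.sum_univ_succ, Fin.succAbove, Matrix.one_apply]
  ring

theorem eq_one_of_fixed [CharP F 2] [Fintype F] {e : ℕ} (he : e ≠ 0)
    (hinj : ∃ f : F →+* F, ∀ x, f x = x ^ e)
    {g : GL (Fin 4) F} (hg : g ∈ Cfsg.Lie.Sz F e) (hodd : ¬ 2 ∣ orderOf g) (v : Fin 4 → F) (hv : v ≠ 0)
    (hgv : (g : Matrix (Fin 4) (Fin 4) F) *ᵥ v = v) : g = 1 := by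
  obtain ⟨hsp, hstar⟩ := mem_iff hinj hg
  set A := (g : Matrix (Fin 4) (Fin 4) F) with hA
  have two : (2 : F) = 0 := CharTwo.two_eq_zero
  have hdet : A.det = 1 := by
    have h := congrArg Matrix.det (transpose_form hsp)
    rw [Matrix.det_mul, Matrix.det_mul, Matrix.det_transpose, ← hA] at h
    have hJ : (J4 : Matrix (Fin 4) (Fin 4) F).det ≠ 0 := by
      intro h0
      have := congrArg Matrix.det (J4_mul_J4 (F := F))
      rw [Matrix.det_mul, h0, zero_mul, Matrix.det_one] at this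
      exact zero_ne_one this
    have h2 : (A.det - 1) ^ 2 = 0 := by
      have : A.det * A.det = 1 := mul_right_cancel₀ hJ (by rw [one_mul]; linear_combination h)
      linear_combination this + (1 - A.det) * two
    exact sub_eq_zero.1 (pow_eq_zero_iff (by norm_num) |>.1 h2)
  have hadj : A.adjugate.trace = A.trace := by
    have h := inv_eq hsp
    rw [← hA] at h
    have h1 : A.adjugate = J4 * Aᵀ * J4 := by
      calc A.adjugate = (J4 * Aᵀ * J4 * A) * A.adjugate := by rw [h, Matrix.one_mul]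
        _ = J4 * Aᵀ * J4 * (A * A.adjugate) := by rw [Matrix.mul_assoc]
        _ = J4 * Aᵀ * J4 := by rw [Matrix.mul_adjugate, hdet, one_smul, Matrix.mul_one]
    rw [h1, Matrix.trace_mul_cycle, J4_mul_J4, Matrix.one_mul, Matrix.trace_transpose]
  have hX : (A 0 0 * A 3 3 - A 3 0 * A 0 3) + (A 1 1 * A 2 2 - A 2 1 * A 1 2) = 0 := by
    have hc := form_of_mem hsp 0 3
    have hr := form_rows hsp 1 2
    simp [J4, ← hA] at hc hr
    linear_combination hc - hr + (A 1 1 * A 2 2 - A 3 0 * A 0 3) * two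
  have hst : (Cfsg.Lie.star4 A).trace =
      (A 0 0 * A 1 1 - A 1 0 * A 0 1) + (A 0 0 * A 2 2 - A 2 0 * A 0 2) +
       (A 1 1 * A 3 3 - A 3 1 * A 1 3) + (A 2 2 * A 3 3 - A 3 2 * A 2 3) := by
    simp [Matrix.trace, Fin.sum_univ_four, Cfsg.Lie.star4, Cfsg.Lie.pairOf]
    ring
  have h0 : (Cfsg.Lie.star4 A).trace = 0 := by
    have h1 : ((1 : F) • (1 : Matrix (Fin 4) (Fin 4) F) - A).det = 0 :=
      Matrix.exists_mulVec_eq_zero_iff.1 ⟨v, hv, by simp [Matrix.sub_mulVec, hgv]⟩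
    rw [det_four_sub, hadj, hdet] at h1
    linear_combination h1 + hst - hX + (A.trace - 1) * two
  have htr : A.trace = 0 := by
    obtain ⟨f, hf⟩ := hinj
    have h1 : f A.trace = 0 := by
      rw [← h0, hstar, Matrix.trace, Matrix.trace, map_sum]
      simp [hf, ← hA]
    rw [hf] at h1
    exact pow_eq_zero_iff he |>.1 h1
  have h4 : A ^ 4 = 1 := by
    have hcp : A.charpoly = Polynomial.X ^ 4 + 1 := by
      have hm : Matrix.charmatrix A = (Polynomial.X : F[X]) • (1 : Matrix (Fin 4) (Fin 4) F[X]) - (Polynomial.C).mapMatrix A := by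
        ext i j
        simp [Matrix.charmatrix_apply, Matrix.diagonal_apply, Matrix.one_apply]
      have htrC : ((Polynomial.C : F →+* F[X]).mapMatrix A).trace = Polynomial.C A.trace := by
        simp [Matrix.trace, map_sum]
      have hadC : ((Polynomial.C : F →+* F[X]).mapMatrix A).adjugate.trace = Polynomial.C A.adjugate.trace := by
        rw [← RingHom.map_adjugate]; simp [Matrix.trace, map_sum]
      have hdC : ((Polynomial.C : F →+* F[X]).mapMatrix A).det = Polynomial.C A.det := (RingHom.map_det _ _).symm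
      rw [Matrix.charpoly, hm, det_four_sub, htrC, hadC, hdC, hadj, htr, hdet]
      have e2 : ((A 0 0 * A 1 1 - A 1 0 * A 0 1) + (A 0 0 * A 2 2 - A 2 0 * A 0 2) +
          (A 1 1 * A 3 3 - A 3 1 * A 1 3) + (A 2 2 * A 3 3 - A 3 2 * A 2 3) +
          (A 0 0 * A 3 3 - A 3 0 * A 0 3) + (A 1 1 * A 2 2 - A 2 1 * A 1 2)) = 0 := by
        linear_combination hX - hst + h0
      have e2C := congrArg (Polynomial.C : F →+* F[X]) e2
      simp only [map_add, map_sub, map_mul, map_zero] at e2C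
      simp only [RingHom.mapMatrix_apply, Matrix.map_apply, map_zero, map_one]
      linear_combination (Polynomial.X ^ 2 : F[X]) * e2C
    have hch := Matrix.aeval_self_charpoly A
    rw [hcp] at hch
    simp at hch
    have hneg : (-1 : Matrix (Fin 4) (Fin 4) F) = 1 := by
      ext i j
      simp [Matrix.one_apply, CharTwo.neg_eq]
    rw [eq_neg_of_add_eq_zero_left hch, hneg]
  have hg4 : orderOf g ∣ 2 ^ 2 := orderOf_dvd_of_pow_eq_one (Units.ext (by simpa [← hA] using h4))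
  obtain ⟨k, _, hk⟩ := (Nat.dvd_prime_pow Nat.prime_two).1 hg4
  rcases k with _ | k
  · exact orderOf_eq_one_iff.1 (by simpa using hk)
  · exact absurd (hk ▸ dvd_pow_self 2 (Nat.succ_ne_zero k)) hodd

end CfsgLib.SzFix
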