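import Mathlib
import Cfsg.Agent.Solvable.Hall

/-!
Lucido's three-prime lemma: if `K ≤ M` are normal in `G` and `p ∣ |K|`, `q ∣ |M/K|`, `r ∣ |G/M|` are distinct
primes, then two of them are adjacent in the prime graph; solvable groups have no three-cocliques.
-/

set_option autoImplicit false
set_option linter.style.haveILetI false

namespace CfsgLib.Lucido

open Subgroup

/-- No group `W ⋊ ⟨z⟩` acts with all the indicated elements fixed point free. -/
theorem pow_card_eq_one_of_fpf {E M : Type*} [Group E] [Finite E] [CommGroup M] (φ : E →* MulAut M)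
    (W : Subgroup E) (z : E) (r : ℕ) (hr : r.Prime) (hzW : ∀ w ∈ W, z * w * z⁻¹ ∈ W)
    (hord : ∀ w ∈ W, (w * z) ^ r = 1) (hWne : W ≠ ⊥)
    (hW : ∀ w ∈ W, w ≠ 1 → ∀ m : M, φ w m = m → m = 1)
    (hz : ∀ w ∈ W, ∀ m : M, φ (w * z) m = m → m = 1) (m : M) : m ^ Nat.card W = 1 := by
  classical
  haveI := Fintype.ofFinite W
  obtain ⟨w0, hw0, hw0'⟩ := W.bot_or_exists_ne_one.resolve_left hWne
  have hsumW : ∀ u : M, ∏ w : W, φ (w : E) u = 1 := by
    intro u
    refine hW w0 hw0 hw0' _ ?_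
    rw [map_prod]
    refine Fintype.prod_bijective (fun w : W => (⟨w0, hw0⟩ : W) * w) (Group.mulLeft_bijective _) _ _ fun w => ?_
    show φ w0 (φ (w : E) u) = φ (w0 * (w : E)) u
    rw [map_mul]; rfl
  have hsum : ∀ w ∈ W, ∏ i ∈ Finset.range r, φ ((w * z) ^ i) m = 1 := by
    intro w hw
    refine hz w hw _ ?_
    rw [map_prod]
    have h1 : ∀ i, φ (w * z) (φ ((w * z) ^ i) m) = φ ((w * z) ^ (i + 1)) m := fun i => by
      rw [pow_succ', map_mul (φ) (w * z) ((w * z) ^ i)]; rfl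
    simp only [h1]
    apply mul_right_cancel (b := φ ((w * z) ^ 0) m)
    rw [← Finset.prod_range_succ' (fun i => φ ((w * z) ^ i) m), Finset.prod_range_succ, pow_zero, hord w hw]
  have hconjpow : ∀ (k : ℕ), ∀ w ∈ W, z ^ k * w * (z ^ k)⁻¹ ∈ W := by
    intro k
    induction k with
    | zero => intro w hw; simpa using hw
    | succ k ih =>
      intro w hw
      have := hzW _ (ih w hw)
      rwa [show z * (z ^ k * w * (z ^ k)⁻¹) * z⁻¹ = z ^ (k + 1) * w * (z ^ (k + 1))⁻¹ by
        rw [pow_succ', mul_inv_rev]; simp only [mul_assoc]] at this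
  have hmem : ∀ (k : ℕ), ∀ w ∈ W, (w * z) ^ k * (z ^ k)⁻¹ ∈ W := by
    intro k
    induction k with
    | zero => intro w _; simp
    | succ k ih =>
      intro w hw
      have := mul_mem (ih w hw) (hconjpow k w hw)
      rwa [show (w * z) ^ k * (z ^ k)⁻¹ * (z ^ k * w * (z ^ k)⁻¹) = (w * z) ^ (k + 1) * (z ^ (k + 1))⁻¹ by
        rw [pow_succ, pow_succ, mul_inv_rev]; simp [mul_assoc]] at this
  obtain ⟨k, rfl⟩ : ∃ k, r = k + 1 := ⟨r - 1, by have := hr.pos; omega⟩
  have htot : ∏ w : W, ∏ i ∈ Finset.range (k + 1), φ (((w : E) * z) ^ i) m = 1 :=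
    Finset.prod_eq_one fun w _ => hsum w w.2
  rw [Finset.prod_comm, Finset.prod_range_succ'] at htot
  have hrest : ∏ i ∈ Finset.range k, ∏ w : W, φ (((w : E) * z) ^ (i + 1)) m = 1 := by
    refine Finset.prod_eq_one fun i hi => ?_
    rw [← hsumW (φ (z ^ (i + 1)) m)]
    have hco : Nat.Coprime (i + 1) (k + 1) := by
      refine (hr.coprime_iff_not_dvd.2 fun h => ?_).symm
      have := Nat.le_of_dvd (Nat.succ_pos i) h
      have := Finset.mem_range.1 hi
      omega
    let f : W → W := fun w => ⟨((w : E) * z) ^ (i + 1) * (z ^ (i + 1))⁻¹, hmem _ w w.2⟩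
    have hf : Function.Injective f := by
      intro a b hab
      have h : ((a : E) * z) ^ (i + 1) = ((b : E) * z) ^ (i + 1) :=
        mul_right_cancel (congrArg Subtype.val hab)
      have key : ∀ x : E, x ^ (k + 1) = 1 → x = (x ^ (i + 1)) ^ Nat.gcdA (i + 1) (k + 1) := by
        intro x hx
        have hb := Nat.gcd_eq_gcd_ab (i + 1) (k + 1)
        rw [hco.gcd_eq_one] at hb
        calc x = x ^ (((1 : ℕ) : ℤ)) := by simp
          _ = _ := by
            rw [hb, zpow_add, zpow_mul, zpow_mul, zpow_natCast, zpow_natCast, hx, one_zpow, mul_one]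
      have e : (a : E) * z = (b : E) * z := by
        rw [key _ (hord a a.2), key _ (hord b b.2), h]
      exact Subtype.ext (mul_right_cancel e)
    refine Fintype.prod_bijective f (Finite.injective_iff_bijective.1 hf) _ _ fun w => ?_
    show φ (((w : E) * z) ^ (i + 1)) m = φ (((w : E) * z) ^ (i + 1) * (z ^ (i + 1))⁻¹) (φ (z ^ (i + 1)) m)
    rw [← MulAut.mul_apply, ← map_mul, inv_mul_cancel_right]
  rw [hrest, one_mul] at htot
  simp only [pow_zero, map_one, MulAut.one_apply, Finset.prod_const, Finset.card_univ] at htot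
  rwa [Nat.card_eq_fintype_card]

/-- Commuting elements of coprime prime orders. -/
theorem eq_one_of_commute {G : Type*} [Group G] {p r : ℕ} (hp : p.Prime) (hr : r.Prime) (hpr : p ≠ r)
    (hno : ¬ ∃ x : G, orderOf x = p * r) {a b : G} (ha : a ^ p = 1) (hb : b ^ r = 1) (hb1 : b ≠ 1)
    (h : Commute a b) : a = 1 := by
  by_contra ha1
  haveI : Fact p.Prime := ⟨hp⟩
  haveI : Fact r.Prime := ⟨hr⟩
  refine hno ⟨a * b, ?_⟩
  rw [h.orderOf_mul_eq_mul_orderOf_of_coprime, orderOf_eq_prime ha ha1, orderOf_eq_prime hb hb1]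
  rw [orderOf_eq_prime ha ha1, orderOf_eq_prime hb hb1]
  exact (Nat.coprime_primes hp hr).2 hpr

/-- `Ω₁(Z(P))`. -/
def omegaCenter {G : Type*} [Group G] (P : Subgroup G) (p : ℕ) : Subgroup G where
  carrier := {x | x ∈ P ∧ (∀ y ∈ P, Commute y x) ∧ x ^ p = 1}
  one_mem' := ⟨one_mem _, fun y _ => Commute.one_right y, one_pow _⟩
  mul_mem' := fun {a b} ha hb => ⟨mul_mem ha.1 hb.1, fun y hy => (ha.2.1 y hy).mul_right (hb.2.1 y hy),
    by rw [(hb.2.1 a ha.1).mul_pow, ha.2.2, hb.2.2, one_mul]⟩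
  inv_mem' := fun {a} ha => ⟨inv_mem ha.1, fun y hy => (ha.2.1 y hy).inv_right,
    by rw [inv_pow, ha.2.2, inv_one]⟩

theorem omegaCenter_ne_bot {G : Type*} [Group G] [Finite G] (P : Subgroup G) {p : ℕ} [Fact p.Prime]
    (hP : IsPGroup p P) (hne : P ≠ ⊥) : omegaCenter P p ≠ ⊥ := by
  haveI := (nontrivial_iff_ne_bot P).2 hne
  haveI := hP.center_nontrivial
  obtain ⟨k, hk⟩ := IsPGroup.iff_card.1 (hP.to_subgroup (center P))
  have hk0 : k ≠ 0 := fun h0 => by
    have := Finite.one_lt_card (α := center P); rw [hk, h0, pow_zero] at this; omega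
  obtain ⟨x, hx⟩ := exists_prime_orderOf_dvd_card' (G := center P) p (hk ▸ dvd_pow_self p hk0)
  have hxp : ((x : P) : G) ^ p = 1 := by
    rw [← hx, ← Subgroup.orderOf_coe, ← Subgroup.orderOf_coe, pow_orderOf_eq_one]
  intro hbot
  have hmem : ((x : P) : G) ∈ omegaCenter P p :=
    ⟨(x : P).2, fun y hy => congrArg Subtype.val ((mem_center_iff.1 x.2) ⟨y, hy⟩), hxp⟩
  rw [hbot, mem_bot] at hmem
  have : x = 1 := Subtype.ext (Subtype.ext hmem)
  rw [this, orderOf_one] at hx
  exact (Fact.out : p.Prime).one_lt.ne hx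

theorem conj_mem_omegaCenter {G : Type*} [Group G] (P : Subgroup G) (p : ℕ) {g : G}
    (hg : g ∈ normalizer (P : Set G)) {x : G} (hx : x ∈ omegaCenter P p) :
    g * x * g⁻¹ ∈ omegaCenter P p := by
  refine ⟨(mem_normalizer_iff.1 hg x).1 hx.1, fun y hy => ?_, ?_⟩
  · have hy' : g⁻¹ * y * g ∈ P := by
      rw [mem_normalizer_iff.1 hg]
      simpa [mul_assoc] using hy
    have h := (hx.2.1 _ hy').map (MulAut.conj g).toMonoidHom
    simpa [mul_assoc] using h
  · rw [conj_pow, hx.2.2, mul_one, mul_inv_cancel]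

theorem normalizer_le_omegaCenter {G : Type*} [Group G] (P : Subgroup G) (p : ℕ) :
    normalizer (P : Set G) ≤ normalizer (omegaCenter P p : Set G) := by
  intro g hg
  rw [mem_normalizer_iff]
  intro x
  refine ⟨fun hx => conj_mem_omegaCenter P p hg hx, fun hx => ?_⟩
  have := conj_mem_omegaCenter P p (inv_mem hg) hx
  simpa [mul_assoc] using this

variable {G : Type*} [Group G] [Finite G]

theorem lucido (K M : Subgroup G) [K.Normal] [M.Normal] (hKM : K ≤ M) {p q r : ℕ} (hp : p.Prime)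
    (hq : q.Prime) (hr : r.Prime) (hpq : p ≠ q) (hpr : p ≠ r) (hqr : q ≠ r)
    (hpK : p ∣ Nat.card K) (hqM : q ∣ K.relIndex M) (hrG : r ∣ M.index) :
    (∃ x : G, orderOf x = p * q) ∨ (∃ x : G, orderOf x = p * r) ∨ (∃ x : G, orderOf x = q * r) := by
  by_contra hcon
  simp only [not_or] at hcon
  obtain ⟨npq, npr, nqr⟩ := hcon
  haveI : Fact p.Prime := ⟨hp⟩
  haveI : Fact q.Prime := ⟨hq⟩
  haveI : Fact r.Prime := ⟨hr⟩
  obtain ⟨P⟩ := (inferInstance : Nonempty (Sylow p K))
  set Pg : Subgroup G := (P : Subgroup K).map K.subtype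
  set N1 : Subgroup G := normalizer (Pg : Set G)
  have hfr : N1 ⊔ K = ⊤ := Sylow.normalizer_sup_eq_top P
  have hM1 : (M ⊓ N1) ⊔ K = M := by
    refine le_antisymm (sup_le inf_le_left hKM) fun x hx => ?_
    obtain ⟨n, hn, k, hk, rfl⟩ := mem_sup_of_normal_right.1 (hfr ▸ mem_top x : x ∈ N1 ⊔ K)
    have hnM : n ∈ M := by
      have := mul_mem hx (inv_mem (hKM hk))
      rwa [mul_inv_cancel_right] at this
    exact mul_mem (mem_sup_left ⟨hnM, hn⟩) (mem_sup_right hk)
  set M' := M.subgroupOf N1 with hM'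
  have hqM' : q ∣ Nat.card M' := by
    rw [← hM1, relIndex_sup_right] at hqM
    refine hqM.trans ((relIndex_dvd_card _ _).trans ?_)
    rw [hM', ← inf_subgroupOf_right, Nat.card_congr (subgroupOfEquivOfLe (inf_le_right : M ⊓ N1 ≤ N1)).toEquiv]
  obtain ⟨Q⟩ := (inferInstance : Nonempty (Sylow q M'))
  set Qn : Subgroup N1 := (Q : Subgroup M').map M'.subtype
  have hfr2 : normalizer (Qn : Set N1) ⊔ M' = ⊤ := Sylow.normalizer_sup_eq_top Q
  have hMN : N1 ⊔ M = ⊤ := eq_top_iff.2 (hfr ▸ sup_le_sup_left hKM N1)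
  have hr2 : r ∣ Nat.card (normalizer (Qn : Set N1)) := by
    have h1 : M.index = M'.index := by
      rw [← relIndex_top_right, ← hMN, relIndex_sup_right]; rfl
    rw [h1, ← relIndex_top_right, ← hfr2, relIndex_sup_right] at hrG
    exact hrG.trans (relIndex_dvd_card _ _)
  obtain ⟨z, hz⟩ := exists_prime_orderOf_dvd_card' (G := normalizer (Qn : Set N1)) r hr2
  have hPne : Pg ≠ ⊥ := by
    intro h
    rw [Subgroup.map_eq_bot_iff_of_injective _ K.subtype_injective] at h
    exact P.ne_bot_of_dvd_card hpK h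
  set V := omegaCenter Pg p
  have hV : V ≠ ⊥ := omegaCenter_ne_bot Pg (P.2.map _) hPne
  have hQne : Qn ≠ ⊥ := by
    intro h
    rw [Subgroup.map_eq_bot_iff_of_injective _ M'.subtype_injective] at h
    exact Q.ne_bot_of_dvd_card hqM' h
  set W := omegaCenter Qn q
  have hW : W ≠ ⊥ := omegaCenter_ne_bot Qn (Q.2.map _) hQne
  have hWcomm : ∀ a ∈ W, ∀ b ∈ W, Commute a b := fun a ha b hb => hb.2.1 a ha.1
  letI : CommGroup V :=
    { (inferInstance : Group V) with
      mul_comm := fun a b => Subtype.ext (b.2.2.1 a a.2.1).eq }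
  let φ : N1 →* MulAut V := V.normalizerMonoidHom.comp (Subgroup.inclusion (normalizer_le_omegaCenter Pg p))
  have hφ : ∀ (e : N1) (v : V), φ e v = v → Commute (v : G) (e : G) := by
    intro e v h
    have h1 : (e : G) * (v : G) * (e : G)⁻¹ = v := congrArg Subtype.val h
    exact (mul_inv_eq_iff_eq_mul.1 h1).symm
  set zz : N1 := (z : N1)
  have hzz : orderOf zz = r := by rw [Subgroup.orderOf_coe, hz]
  have hzW : ∀ w ∈ W, zz * w * zz⁻¹ ∈ W := fun w hw => conj_mem_omegaCenter Qn q z.2 hw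
  have nqr' : ¬ ∃ x : N1, orderOf x = q * r := fun ⟨x, hx⟩ => nqr ⟨x, by rw [Subgroup.orderOf_coe, hx]⟩
  have hzr : zz ^ r = 1 := hzz ▸ pow_orderOf_eq_one zz
  have hzne : zz ≠ 1 := fun h => hr.one_lt.ne (by rw [← hzz, h, orderOf_one])
  have hord : ∀ w ∈ W, (w * zz) ^ r = 1 := by
    intro w hw
    have hc : ∀ k : ℕ, (w * zz) ^ k * (zz ^ k)⁻¹ ∈ W := by
      intro k
      induction k with
      | zero => simp
      | succ k ih =>
        have hk : zz ^ k * w * (zz ^ k)⁻¹ ∈ W :=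
          conj_mem_omegaCenter Qn q (pow_mem z.2 k) hw
        have := mul_mem ih hk
        rwa [show (w * zz) ^ k * (zz ^ k)⁻¹ * (zz ^ k * w * (zz ^ k)⁻¹) = (w * zz) ^ (k + 1) * (zz ^ (k + 1))⁻¹ by
          rw [pow_succ, pow_succ, mul_inv_rev]; simp [mul_assoc]] at this
    have hu : (w * zz) ^ r ∈ W := by simpa [hzr] using hc r
    refine eq_one_of_commute hq hr hqr nqr' hu.2.2 hzr hzne ?_
    have h1 : Commute ((w * zz) ^ r) (w * zz) := Commute.pow_self _ _
    have h2 : Commute ((w * zz) ^ r) w⁻¹ := (hWcomm _ hu w hw).inv_right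
    simpa using h2.mul_right h1
  have key := pow_card_eq_one_of_fpf φ W zz r hr hzW hord hW
    (fun w hw hw1 v hv => Subtype.ext (eq_one_of_commute hp hq hpq npq v.2.2.2
      (congrArg Subtype.val hw.2.2) (fun h => hw1 (Subtype.ext h)) (hφ w v hv)))
    (fun w hw v hv => Subtype.ext (eq_one_of_commute hp hr hpr npr v.2.2.2
      (congrArg Subtype.val (hord w hw)) (fun h => by
        have h' : w * zz = 1 := Subtype.ext h
        have hzmem : zz ∈ W := by rw [eq_inv_of_mul_eq_one_right h']; exact inv_mem hw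
        have := orderOf_dvd_of_pow_eq_one hzmem.2.2
        rw [hzz] at this
        exact hqr ((Nat.prime_dvd_prime_iff_eq hr hq).1 this).symm) (hφ _ v hv)))
  obtain ⟨v, hv, hv1⟩ := V.bot_or_exists_ne_one.resolve_left hV
  have hWp : Nat.card W ∣ Nat.card Qn := Subgroup.card_dvd_of_le fun x hx => hx.1
  obtain ⟨n, hn⟩ := IsPGroup.iff_card.1 (Q.2.map M'.subtype)
  rw [hn] at hWp
  have h1 : (v : G) ^ Nat.card W = 1 := congrArg Subtype.val (key ⟨v, hv⟩)
  have h2 : v ^ p = 1 := hv.2.2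
  have hco : Nat.Coprime p (Nat.card W) :=
    (((Nat.coprime_primes hp hq).2 hpq).pow_right n).coprime_dvd_right hWp
  have := pow_gcd_eq_one.2 ⟨h2, h1⟩
  rw [hco.gcd_eq_one, pow_one] at this
  exact hv1 this

/-- A solvable group has no three pairwise non-adjacent primes. -/
theorem no_coclique_of_solvable [Group.IsSolvable G] {p q r : ℕ} (hp : p.Prime) (hq : q.Prime)
    (hr : r.Prime) (hpq : p ≠ q) (hpr : p ≠ r) (hqr : q ≠ r) (hpG : p ∣ Nat.card G)
    (hqG : q ∣ Nat.card G) (hrG : r ∣ Nat.card G) (npq : ¬ ∃ x : G, orderOf x = p * q)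
    (npr : ¬ ∃ x : G, orderOf x = p * r) (nqr : ¬ ∃ x : G, orderOf x = q * r) : False := by
  obtain ⟨H, hH1, hH2, -⟩ := CfsgLib.Hall.hall_pi (G := G) (fun t => t = p ∨ t = q ∨ t = r)
  have hdvd : ∀ t, t.Prime → (t = p ∨ t = q ∨ t = r) → t ∣ Nat.card H := by
    intro t ht htP
    have : t ∣ Nat.card H * H.index := by
      rw [Subgroup.card_mul_index]; rcases htP with rfl | rfl | rfl <;> assumption
    exact (ht.dvd_mul.1 this).resolve_right fun h => hH2 t ht h htP
  haveI : Nontrivial H := Finite.one_lt_card_iff_nontrivial.1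
    (lt_of_lt_of_le hp.one_lt (Nat.le_of_dvd Nat.card_pos (hdvd p hp (Or.inl rfl))))
  obtain ⟨N, hN, hN1, -, -, -, s, hs, -, hNp⟩ :=
    CfsgLib.Solvable.exists_normal_elementary_le (N := (⊤ : Subgroup H)) top_ne_bot inferInstance
  haveI : Fact s.Prime := ⟨hs⟩
  set K : Subgroup H := Cfsg.pCore s H with hK
  have hKp := CfsgLib.Solvable.isPGroup_pCore (G := H) s
  have hKne : K ≠ ⊥ := fun h => hN1 (le_bot_iff.1 (h ▸ CfsgLib.Solvable.le_pCore s hN hNp))
  have hsK : s ∣ Nat.card K := by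
    obtain ⟨k, hk⟩ := IsPGroup.iff_card.1 hKp
    rw [hk]
    refine dvd_pow_self s fun h0 => hKne (Subgroup.eq_bot_of_card_eq K ?_)
    rw [hk, h0, pow_zero]
  have hsP := hH1 s hs (hsK.trans (Subgroup.card_subgroup_dvd_card K))
  obtain ⟨t, ht, hts, htP⟩ : ∃ t, t.Prime ∧ t ≠ s ∧ (t = p ∨ t = q ∨ t = r) := by
    by_cases h : p = s
    · exact ⟨q, hq, fun e => hpq (h.trans e.symm), Or.inr (Or.inl rfl)⟩
    · exact ⟨p, hp, h, Or.inl rfl⟩
  haveI : Nontrivial (H ⧸ K) := by
    refine Finite.one_lt_card_iff_nontrivial.1 (Nat.one_lt_iff_ne_zero_and_ne_one.2 ⟨Nat.card_pos.ne', fun h => ?_⟩)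
    have htH := hdvd t ht htP
    rw [Subgroup.card_eq_card_quotient_mul_card_subgroup K, h, one_mul] at htH
    obtain ⟨k, hk⟩ := IsPGroup.iff_card.1 hKp
    rw [hk] at htH
    exact hts ((Nat.prime_dvd_prime_iff_eq ht hs).1 (ht.dvd_of_dvd_pow htH))
  obtain ⟨Mb, hMb, hMb1, -, -, -, u, hu, -, hMbp⟩ :=
    CfsgLib.Solvable.exists_normal_elementary_le (N := (⊤ : Subgroup (H ⧸ K))) top_ne_bot inferInstance
  haveI : Fact u.Prime := ⟨hu⟩
  set M := Mb.comap (QuotientGroup.mk' K) with hM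
  have hKM : K ≤ M := fun x hx => by
    rw [hM, Subgroup.mem_comap, QuotientGroup.mk'_apply, (QuotientGroup.eq_one_iff x).2 hx]
    exact one_mem _
  have hrel : K.relIndex M = Nat.card Mb := by
    have h := Subgroup.relIndex_comap (⊥ : Subgroup (H ⧸ K)) (QuotientGroup.mk' K) M
    rw [MonoidHom.comap_bot, QuotientGroup.ker_mk', hM,
      Subgroup.map_comap_eq_self_of_surjective (QuotientGroup.mk'_surjective K), relIndex_bot_left] at h
    exact h
  obtain ⟨j, hj⟩ := IsPGroup.iff_card.1 hMbp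
  have hj0 : j ≠ 0 := fun h0 => hMb1 (Subgroup.eq_bot_of_card_eq Mb (by rw [hj, h0, pow_zero]))
  have hus : u ≠ s := by
    rintro rfl
    obtain ⟨k, hk⟩ := IsPGroup.iff_card.1 hKp
    have hMp : IsPGroup u M := IsPGroup.of_card (n := k + j) (by
      rw [← relIndex_bot_left M, ← relIndex_mul_relIndex ⊥ K M bot_le hKM, relIndex_bot_left, hrel,
        hk, hj, pow_add])
    have hMle : M ≤ K := CfsgLib.Solvable.le_pCore u inferInstance hMp
    apply hj0
    have : K.relIndex M = 1 := relIndex_eq_one.2 hMle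
    rw [hrel, hj] at this
    exact (Nat.pow_eq_one.1 this).resolve_left hu.ne_one
  have huM : u ∣ K.relIndex M := by rw [hrel, hj]; exact dvd_pow_self u hj0
  have huP := hH1 u hu (huM.trans ((relIndex_dvd_card _ _).trans (Subgroup.card_subgroup_dvd_card M)))
  obtain ⟨v, hv, hvs, hvu, hvP⟩ : ∃ v, v.Prime ∧ v ≠ s ∧ v ≠ u ∧ (v = p ∨ v = q ∨ v = r) := by
    rcases hsP with rfl | rfl | rfl <;> rcases huP with rfl | rfl | rfl <;>
      first
        | exact absurd rfl hus
        | exact ⟨p, hp, by tauto, by tauto, by tauto⟩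
        | exact ⟨q, hq, by tauto, by tauto, by tauto⟩
        | exact ⟨r, hr, by tauto, by tauto, by tauto⟩
  have hvM : v ∣ M.index := by
    have h := hdvd v hv hvP
    rw [← Subgroup.card_mul_index M] at h
    refine (hv.dvd_mul.1 h).resolve_left fun h' => ?_
    rw [← relIndex_bot_left M, ← relIndex_mul_relIndex ⊥ K M bot_le hKM, relIndex_bot_left, hrel] at h'
    obtain ⟨k, hk⟩ := IsPGroup.iff_card.1 hKp
    rw [hk, hj] at h'
    rcases hv.dvd_mul.1 h' with h' | h'
    · exact hvs ((Nat.prime_dvd_prime_iff_eq hv hs).1 (hv.dvd_of_dvd_pow h'))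
    · exact hvu ((Nat.prime_dvd_prime_iff_eq hv hu).1 (hv.dvd_of_dvd_pow h'))
  have hno : ∀ a b, (a = p ∨ a = q ∨ a = r) → (b = p ∨ b = q ∨ b = r) → a ≠ b →
      ¬ ∃ x : H, orderOf x = a * b := by
    rintro a b ha hb hab ⟨x, hx⟩
    have hx' : orderOf (x : G) = a * b := by rw [Subgroup.orderOf_coe, hx]
    rcases ha with rfl | rfl | rfl <;> rcases hb with rfl | rfl | rfl <;>
      first
        | exact absurd rfl hab
        | exact npq ⟨_, hx'⟩
        | exact npr ⟨_, hx'⟩
        | exact nqr ⟨_, hx'⟩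
        | exact npq ⟨_, hx'.trans (mul_comm _ _)⟩
        | exact npr ⟨_, hx'.trans (mul_comm _ _)⟩
        | exact nqr ⟨_, hx'.trans (mul_comm _ _)⟩
  rcases lucido K M hKM hs hu hv hus.symm hvs.symm hvu.symm hsK huM hvM with h | h | h
  · exact hno _ _ hsP huP hus.symm h
  · exact hno _ _ hsP hvP hvs.symm h
  · exact hno _ _ huP hvP hvu.symm h

/-- Two primes of a coclique of size three cannot both divide the order of a solvable normal subgroup. -/
theorem solvable_normal_coclique (K : Subgroup G) [K.Normal] (hK : Group.IsSolvable K) {p q r : ℕ}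
    (hp : p.Prime) (hq : q.Prime) (hr : r.Prime) (hpq : p ≠ q) (hpr : p ≠ r) (hqr : q ≠ r)
    (hpK : p ∣ Nat.card K) (hqK : q ∣ Nat.card K) (hrG : r ∣ Nat.card G)
    (npq : ¬ ∃ x : G, orderOf x = p * q) (npr : ¬ ∃ x : G, orderOf x = p * r)
    (nqr : ¬ ∃ x : G, orderOf x = q * r) : False := by
  haveI : Fact r.Prime := ⟨hr⟩
  by_cases hrK : r ∣ Nat.card K
  · haveI := hK
    exact no_coclique_of_solvable (G := K) hp hq hr hpq hpr hqr hpK hqK hrK
      (fun ⟨x, hx⟩ => npq ⟨x, by rw [Subgroup.orderOf_coe, hx]⟩)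
      (fun ⟨x, hx⟩ => npr ⟨x, by rw [Subgroup.orderOf_coe, hx]⟩)
      (fun ⟨x, hx⟩ => nqr ⟨x, by rw [Subgroup.orderOf_coe, hx]⟩)
  haveI := hK
  obtain ⟨H0, hH1, hH2, -⟩ := CfsgLib.Hall.hall_pi (G := K) (fun t => t = p ∨ t = q)
  set H := H0.map K.subtype with hHdef
  have hHc : Nat.card H = Nat.card H0 := (Nat.card_congr (H0.equivMapOfInjective _ K.subtype_injective).toEquiv).symm
  have hHK : H ≤ K := map_subtype_le H0
  have hrel : H.relIndex K = H0.index := by
    show (H.subgroupOf K).index = H0.index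
    rw [hHdef]
    show ((H0.map K.subtype).comap K.subtype).index = H0.index
    rw [comap_map_eq_self_of_injective K.subtype_injective]
  have hdv : ∀ t, t.Prime → (t = p ∨ t = q) → t ∣ Nat.card K → t ∣ Nat.card H := by
    intro t ht htP h
    rw [← Subgroup.card_mul_index H0] at h
    rw [hHc]
    exact (ht.dvd_mul.1 h).resolve_right fun h' => hH2 t ht h' htP
  have hfr : K ⊔ normalizer (H : Set G) = ⊤ := by
    haveI : Group.IsSolvable K := hK
    have hcop : (Nat.card H).Coprime (H.relIndex K) := by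
      rw [hHc, hrel]
      exact Nat.coprime_of_dvd fun t ht h1 h2 => hH2 t ht h2 (hH1 t ht h1)
    exact CfsgLib.Hall.frattini_hall K hK H hHK hcop
  have hrN : r ∣ Nat.card (normalizer (H : Set G)) := by
    rw [← Subgroup.card_mul_index K] at hrG
    have := (hr.dvd_mul.1 hrG).resolve_left hrK
    rw [← relIndex_top_right, ← hfr, relIndex_sup_left] at this
    exact this.trans (relIndex_dvd_card _ _)
  obtain ⟨z, hz⟩ := exists_prime_orderOf_dvd_card' (G := normalizer (H : Set G)) r hrN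
  set L := H ⊔ zpowers (z : G) with hL
  haveI hHn : (H.subgroupOf L).Normal := (normal_subgroupOf_iff_le_normalizer le_sup_left).2
    (sup_le le_normalizer (zpowers_le.2 z.2))
  haveI hLs : Group.IsSolvable L := by
    have h1 : Group.IsSolvable (H.subgroupOf L) :=
      Group.isSolvable_of_isSolvable_injective
        (f := (Subgroup.inclusion hHK).comp (subgroupOfEquivOfLe (le_sup_left : H ≤ L)).toMonoidHom)
        ((Subgroup.inclusion_injective hHK).comp (MulEquiv.injective _))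
    haveI := h1
    let f : zpowers (z : G) →* L ⧸ H.subgroupOf L :=
      (QuotientGroup.mk' _).comp (Subgroup.inclusion le_sup_right)
    have hf : Function.Surjective f := by
      intro y
      obtain ⟨⟨x, hx⟩, rfl⟩ := QuotientGroup.mk'_surjective _ y
      obtain ⟨a, ha, b, hb, rfl⟩ :=
        (CfsgLib.Solvable.mem_sup_of_le_normalizer (A := zpowers (z : G)) (K := H) (zpowers_le.2 z.2)).1
          (show x ∈ zpowers (z : G) ⊔ H by rw [sup_comm, ← hL]; exact hx)
      refine ⟨⟨a, ha⟩, (QuotientGroup.mk'_eq_mk' _).2 ⟨⟨b, le_sup_left (α := Subgroup G) hb⟩, hb, rfl⟩⟩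
    haveI : Group.IsSolvable (L ⧸ H.subgroupOf L) := by
      letI : CommGroup (zpowers (z : G)) := IsCyclic.commGroup
      exact Group.isSolvable_of_surjective hf
    exact Group.isSolvable_of_ker_le_range (H.subgroupOf L).subtype (QuotientGroup.mk' (H.subgroupOf L))
      (by rw [QuotientGroup.ker_mk', range_subtype])
  have hpL : p ∣ Nat.card L := (hdv p hp (Or.inl rfl) hpK).trans (Subgroup.card_dvd_of_le le_sup_left)
  have hqL : q ∣ Nat.card L := (hdv q hq (Or.inr rfl) hqK).trans (Subgroup.card_dvd_of_le le_sup_left)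
  have hrL : r ∣ Nat.card L := by
    have : Nat.card (zpowers (z : G)) = r := by rw [Nat.card_zpowers, Subgroup.orderOf_coe, hz]
    exact this ▸ Subgroup.card_dvd_of_le (le_sup_right : zpowers (z : G) ≤ L)
  exact no_coclique_of_solvable (G := L) hp hq hr hpq hpr hqr hpL hqL hrL
      (fun ⟨x, hx⟩ => npq ⟨x, by rw [Subgroup.orderOf_coe, hx]⟩)
      (fun ⟨x, hx⟩ => npr ⟨x, by rw [Subgroup.orderOf_coe, hx]⟩)
      (fun ⟨x, hx⟩ => nqr ⟨x, by rw [Subgroup.orderOf_coe, hx]⟩)

end CfsgLib.Lucido
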