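import Cfsg.Agent.Char.Clifford
import Cfsg.Agent.Char.Constituents
import Cfsg.Agent.Dickson.OrderSixty
import Cfsg.Prelude.Def_DegreeGraph
import Mathlib.GroupTheory.GroupAction.Quotient

/-! Degrees of a doubly transitive action; the degree five in groups of order sixty. -/

set_option autoImplicit false

namespace CfsgLib.DegreeSixty

open MulAction

universe u

variable {G : Type u} [Group G]

/-- A doubly transitive action on `n` points gives an irreducible character of degree `n - 1`. -/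
theorem exists_irr_of_two_orbits [Finite G] {X : Type*} [MulAction G X] [Finite X]
    [IsPretransitive G X] (x : X) {y₀ : X} (hy₀ : y₀ ≠ x)
    (h2 : ∀ y : X, y ≠ x → ∃ g ∈ stabilizer G x, g • y₀ = y) :
    ∃ χ : G → ℂ, Cfsg.IsIrrCharacter G χ ∧ χ 1 = (Nat.card X : ℂ) - 1 := by
  classical
  haveI := Fintype.ofFinite G
  haveI := Fintype.ofFinite X
  haveI : Fintype (stabilizer G x) := Fintype.ofFinite _
  set π : G → ℂ := fun g => (Nat.card (fixedBy X g) : ℂ) with hπ
  have hind := CfsgLib.Char.indFun_one_stabilizer (G := G) x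
  have hπc : Cfsg.IsCharacter G π := by
    have := CfsgLib.Char.IsCharacter.indFun (H := stabilizer G x)
      (CfsgLib.Char.isCharacter_one (G := stabilizer G x))
    rwa [hind] at this
  have h1c : Cfsg.IsIrrCharacter G (fun _ : G => (1 : ℂ)) := CfsgLib.Char.isIrrCharacter_one
  have hπ1 : Cfsg.classInner π (fun _ : G => (1 : ℂ)) = 1 := by
    rw [hπ, ← hind, CfsgLib.Char.classInner_indFun _
      (CfsgLib.Char.IsIrrCharacter.isClassFunction h1c)]
    exact CfsgLib.Char.classInner_one_one
  have horb : Nat.card (Quotient (orbitRel (stabilizer G x) X)) = 2 := by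
    let f : Quotient (orbitRel (stabilizer G x) X) → Bool :=
      Quotient.lift (fun z => decide (z = x)) fun a b hab => by
        obtain ⟨g, hg⟩ := hab
        have hg' : (g : G) • b = a := hg
        have : a = x ↔ b = x := by
          rw [← hg']
          constructor
          · intro h
            exact MulAction.injective (g : G) (h.trans (mem_stabilizer_iff.1 g.2).symm)
          · rintro rfl
            exact mem_stabilizer_iff.1 g.2
        simp [this]
    have hf : Function.Bijective f := by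
      constructor
      · rintro ⟨a⟩ ⟨b⟩ h
        have h' : a = x ↔ b = x := by simpa [f] using h
        apply Quotient.sound
        by_cases ha : a = x
        · rw [ha, h'.1 ha]
        · obtain ⟨g, hg, hga⟩ := h2 a ha
          obtain ⟨k, hk, hkb⟩ := h2 b (fun hb => ha (h'.2 hb))
          refine ⟨(⟨g, hg⟩ : stabilizer G x) * ⟨k, hk⟩⁻¹, ?_⟩
          show (g * k⁻¹) • b = a
          rw [mul_smul, ← hkb, inv_smul_smul, hga]
      · intro b
        cases b
        · exact ⟨Quotient.mk _ y₀, by simp [f, hy₀]⟩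
        · exact ⟨Quotient.mk _ x, by simp [f]⟩
    rw [Nat.card_eq_of_bijective f hf, Nat.card_eq_fintype_card, Fintype.card_bool]
  have hππ : Cfsg.classInner π π = 2 := by
    conv_lhs => arg 1; rw [hπ, ← hind]
    rw [CfsgLib.Char.classInner_indFun _ (CfsgLib.Char.IsCharacter.isClassFunction hπc),
      CfsgLib.Char.classInner_def]
    have hb := MulAction.sum_card_fixedBy_eq_card_orbits_mul_card_group (stabilizer G x) X
    simp only [← Nat.card_eq_fintype_card] at hb
    rw [horb] at hb
    have hs : ∑ g : stabilizer G x, (1 : ℂ) * (starRingEnd ℂ) (π (g : G)) =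
        ((2 * Nat.card (stabilizer G x) : ℕ) : ℂ) := by
      rw [← hb, Nat.cast_sum]
      refine Finset.sum_congr rfl fun g _ => ?_
      rw [one_mul, hπ, map_natCast]
      congr 1
    rw [hs, Nat.cast_mul]
    have : (Nat.card (stabilizer G x) : ℂ) ≠ 0 := by exact_mod_cast Nat.card_pos.ne'
    field_simp
    norm_num
  have hφ := CfsgLib.Char.IsCharacter.sub_irr hπc h1c (by rw [hπ1]; exact one_ne_zero)
  refine ⟨π - fun _ => 1, CfsgLib.Char.IsCharacter.isIrrCharacter_of_classInner_self hφ ?_, ?_⟩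
  · have h1π : Cfsg.classInner (fun _ : G => (1 : ℂ)) π = 1 := by
      rw [← CfsgLib.Char.classInner_conj, hπ1, map_one]
    rw [CfsgLib.Char.classInner_sub_left, CfsgLib.Char.classInner_sub_right,
      CfsgLib.Char.classInner_sub_right, hππ, hπ1, h1π, CfsgLib.Char.classInner_one_one]
    norm_num
  · simp only [Pi.sub_apply, hπ]
    congr 1
    have : fixedBy X (1 : G) = Set.univ := by ext; simp
    rw [this, Nat.card_congr (Equiv.Set.univ X)]

/-- In a group of order 60 with non-normal Sylow 5-subgroup, five is a degree. -/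
theorem five_mem_degreePrimes [Finite G] [Fact (Nat.Prime 5)] (hG : Nat.card G = 60) (P : Sylow 5 G)
    (hn : ¬ (P : Subgroup G).Normal) : 5 ∈ Cfsg.degreePrimes G := by
  classical
  obtain ⟨h6, -⟩ := CfsgLib.Dickson.OrderSixty.card_normalizer hG P hn
  have hP := CfsgLib.Dickson.OrderSixty.card_eq_five hG P
  haveI := Fintype.ofFinite (Sylow 5 G)
  obtain ⟨Q₀, hQ₀⟩ : ∃ Q₀ : Sylow 5 G, Q₀ ≠ P := by
    have : Nontrivial (Sylow 5 G) := Finite.one_lt_card_iff_nontrivial.1 (by omega)
    exact exists_ne P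
  have hfix : (P : Subgroup G) ≤ stabilizer G P := fun g hg =>
    Sylow.smul_eq_iff_mem_normalizer.2 (Subgroup.le_normalizer hg)
  have horb : orbit (P : Subgroup G) Q₀ = {Q | Q ≠ P} := by
    refine Set.eq_of_subset_of_ncard_le ?_ ?_
    · rintro Q ⟨g, rfl⟩ (h : (g : G) • Q₀ = P)
      exact hQ₀ (MulAction.injective (g : G) (h.trans (mem_stabilizer_iff.1 (hfix g.2)).symm))
    · have hcompl : ({Q | Q ≠ P} : Set (Sylow 5 G)).ncard = 5 := by
        have e : ({Q | Q ≠ P} : Set (Sylow 5 G)) = {P}ᶜ := by ext; simp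
        rw [e, Set.ncard_compl, Set.ncard_singleton, h6]
      rw [hcompl, ← Nat.card_coe_set_eq]
      obtain ⟨n, hn'⟩ := P.isPGroup'.card_orbit Q₀
      rw [hn']
      rcases n with _ | n
      · exfalso
        rw [pow_zero, Nat.card_eq_one_iff_unique] at hn'
        have hle : (P : Subgroup G) ≤ (Q₀ : Subgroup G) := by
          have : (P : Subgroup G) ≤ Subgroup.normalizer ((Q₀ : Subgroup G) : Set G) := fun g hg =>
            Sylow.smul_eq_iff_mem_normalizer.1 (congrArg Subtype.val
              (hn'.1.elim (⟨_, mem_orbit Q₀ (⟨g, hg⟩ : (P : Subgroup G))⟩ : orbit (P : Subgroup G) Q₀)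
                ⟨Q₀, mem_orbit_self Q₀⟩))
          have h := P.isPGroup'.inf_normalizer_sylow Q₀
          exact (le_inf le_rfl this).trans (h.le.trans inf_le_right)
        exact hQ₀ (Sylow.ext (P.is_maximal' Q₀.isPGroup' hle))
      · exact Nat.le_self_pow (by omega) 5
  obtain ⟨χ, hχ, hχ1⟩ := exists_irr_of_two_orbits (G := G) P hQ₀ fun Q hQ => by
    have : Q ∈ orbit (P : Subgroup G) Q₀ := horb ▸ hQ
    obtain ⟨g, hg⟩ := this
    exact ⟨g, hfix g.2, hg⟩
  refine ⟨Fact.out, 5, ⟨⟨χ, hχ⟩, ?_⟩, dvd_rfl⟩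
  rw [Cfsg.charDegree]
  show ⌊(χ 1).re⌋₊ = 5
  rw [hχ1, h6]
  norm_num

/-- With a normal Sylow 5-subgroup, five divides no degree. -/
theorem five_not_mem_degreePrimes [Finite G] [Fact (Nat.Prime 5)] (hG : Nat.card G = 60)
    (P : Sylow 5 G) (hn : (P : Subgroup G).Normal) : 5 ∉ Cfsg.degreePrimes G := by
  classical
  rintro ⟨-, d, ⟨⟨χ, hχ⟩, hd⟩, h5⟩
  haveI := Fintype.ofFinite G
  haveI := hn
  haveI : Fintype (P : Subgroup G) := Fintype.ofFinite _
  have hP := CfsgLib.Dickson.OrderSixty.card_eq_five hG P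
  obtain ⟨n, -, hn1⟩ := CfsgLib.Char.IsIrrCharacter.exists_degree hχ
  have hdn : d = n := by
    rw [← hd, Cfsg.charDegree]
    show ⌊(χ 1).re⌋₊ = n
    rw [hn1, Complex.natCast_re, Nat.floor_natCast]
  subst hdn
  obtain ⟨θ, hθ, hne⟩ := CfsgLib.Char.exists_constituent_restrict (N := (P : Subgroup G)) hχ
  have hθ1 : θ 1 = 1 := by
    haveI := isCyclic_of_prime_card hP
    letI := IsCyclic.commGroup (α := (P : Subgroup G))
    exact CfsgLib.Char.IsIrrCharacter.apply_one_eq_one hθ mul_comm
  obtain ⟨e, he⟩ := CfsgLib.Char.IsCharacter.exists_classInner_eq_natCast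
    (CfsgLib.Char.IsCharacter.restrict (CfsgLib.Char.IsIrrCharacter.isCharacter hχ) (P : Subgroup G)) hθ
  have hdeg := CfsgLib.Char.degree_eq_mul hχ hθ hne
  rw [he, hθ1, mul_one, hn1] at hdeg
  have hdeg' : d = e * (CfsgLib.Char.inertia θ).index := by exact_mod_cast hdeg
  have ht : (CfsgLib.Char.inertia θ).index ∣ 12 := by
    have h := Subgroup.index_dvd_of_le
      (CfsgLib.Char.le_inertia (CfsgLib.Char.IsIrrCharacter.isClassFunction hθ))
    have := (P : Subgroup G).card_mul_index
    rw [hP, hG] at this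
    rwa [show (P : Subgroup G).index = 12 by omega] at h
  have h5e : 5 ∣ e := by
    rw [hdeg'] at h5
    refine ((Nat.Prime.dvd_mul Fact.out).1 h5).resolve_right fun h => ?_
    exact absurd (h.trans ht) (by norm_num)
  -- the norm of the restriction is too large
  have hres := CfsgLib.Char.restrict_eq_smul_sum hχ hθ hne
  have hsum : ∑ g : (P : Subgroup G), ‖χ g‖ ^ 2 ≤ ∑ g : G, ‖χ g‖ ^ 2 := by
    refine le_trans (le_of_eq (Finset.sum_map Finset.univ
      (Function.Embedding.subtype fun x : G => x ∈ (P : Subgroup G)) (fun g => ‖χ g‖ ^ 2)).symm) ?_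
    exact Finset.sum_le_sum_of_subset_of_nonneg (Finset.subset_univ _) fun i _ _ => sq_nonneg _
  have hnorm : ∑ g : G, ‖χ g‖ ^ 2 = 60 := by
    have h := CfsgLib.Char.IsIrrCharacter.classInner_self hχ
    rw [CfsgLib.Char.classInner_def] at h
    have hc : (Nat.card G : ℂ) ≠ 0 := by exact_mod_cast Nat.card_pos.ne'
    rw [inv_mul_eq_one₀ hc] at h
    have h' := congrArg Complex.re h.symm
    simp only [Complex.re_sum, Complex.mul_conj, Complex.normSq_eq_norm_sq, Complex.ofReal_re,
      Complex.natCast_re] at h'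
    rw [h', hG]
    norm_num
  have h1le : ‖χ ((1 : (P : Subgroup G)) : G)‖ ^ 2 ≤ ∑ g : (P : Subgroup G), ‖χ g‖ ^ 2 :=
    Finset.single_le_sum (f := fun g : (P : Subgroup G) => ‖χ g‖ ^ 2) (fun i _ => sq_nonneg _)
      (Finset.mem_univ 1)
  have hd1 : ‖χ ((1 : (P : Subgroup G)) : G)‖ = d := by
    rw [OneMemClass.coe_one, hn1, Complex.norm_natCast]
  rw [hd1] at h1le
  have h60 : d ^ 2 ≤ 60 := by
    have : ((d ^ 2 : ℕ) : ℝ) ≤ ((60 : ℕ) : ℝ) := by push_cast; linarith
    exact_mod_cast this
  have ht0 : (CfsgLib.Char.inertia θ).index ≠ 0 := Subgroup.index_ne_zero_of_finite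
  obtain ⟨k, rfl⟩ := h5e
  have hk : k ≠ 0 := by
    rintro rfl
    exact CfsgLib.Char.IsIrrCharacter.apply_one_ne_zero hχ (by rw [hn1, hdeg']; simp)
  -- so the inertia group is everything and `χ` restricts to `5 • θ`
  have hk1 : k = 1 ∧ (CfsgLib.Char.inertia θ).index = 1 := by
    rw [hdeg', mul_assoc, mul_pow] at h60
    have h1 : k * (CfsgLib.Char.inertia θ).index < 2 := by
      by_contra h2
      nlinarith
    have h2 : k * (CfsgLib.Char.inertia θ).index ≠ 0 := mul_ne_zero hk ht0
    exact mul_eq_one.1 (by omega)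
  obtain ⟨rfl, hk2⟩ := hk1
  have horbit : CfsgLib.Char.conjOrbit θ = {θ} := by
    refine Finset.eq_singleton_iff_unique_mem.2 ⟨CfsgLib.Char.self_mem_conjOrbit θ, fun ψ hψ => ?_⟩
    obtain ⟨g, rfl⟩ := CfsgLib.Char.mem_conjOrbit.1 hψ
    refine (CfsgLib.Char.mem_inertia θ g).1 ?_
    rw [Subgroup.index_eq_one.1 hk2]
    trivial
  rw [horbit, Finset.sum_singleton, he] at hres
  have hPsum : ∑ g : (P : Subgroup G), ‖χ g‖ ^ 2 = 125 := by
    obtain ⟨lam, hlam⟩ := CfsgLib.Char.IsCharacter.exists_hom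
      (CfsgLib.Char.IsIrrCharacter.isCharacter hθ) hθ1
    have : ∀ g : (P : Subgroup G), ‖χ g‖ ^ 2 = 25 := fun g => by
      rw [show χ g = _ from congrFun hres g, Pi.smul_apply, smul_eq_mul, norm_mul]
      simp [hlam, CfsgLib.Char.norm_hom_eq_one]
      norm_num
    rw [Finset.sum_congr rfl fun g _ => this g, Finset.sum_const, Finset.card_univ,
      ← Nat.card_eq_fintype_card, hP]
    norm_num
  linarith

end CfsgLib.DegreeSixty
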