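import Mathlib

/-!
Minimal Frobenius groups `F_p(ζ) ⋊ ⟨ζ⟩` and their products: groups critical with respect to their spectrum.
-/

set_option autoImplicit false
set_option linter.style.haveILetI false

namespace CfsgLib.CriticalSpec

/-- Multiplication by units on the additive group, written multiplicatively. -/
def mulAct (K : Type) [Field K] (C : Subgroup Kˣ) : ↥C →* MulAut (Multiplicative K) where
  toFun c :=
    { toFun := fun v => Multiplicative.ofAdd (((c : Kˣ) : K) * v.toAdd)
      invFun := fun v => Multiplicative.ofAdd ((((c : Kˣ)⁻¹ : Kˣ) : K) * v.toAdd)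
      left_inv := fun v => by simp [← mul_assoc]
      right_inv := fun v => by simp [← mul_assoc]
      map_mul' := fun v w => by simp [mul_add, ← ofAdd_add] }
  map_one' := by
    apply MulEquiv.ext
    intro v
    apply Multiplicative.toAdd.injective
    show (((1 : ↥C) : Kˣ) : K) * v.toAdd = v.toAdd
    simp
  map_mul' c d := by
    apply MulEquiv.ext
    intro v
    apply Multiplicative.toAdd.injective
    show (((c * d : ↥C) : Kˣ) : K) * v.toAdd = ((c : Kˣ) : K) * (((d : Kˣ) : K) * v.toAdd)
    simp [mul_assoc]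

/-- The Frobenius group `K ⋊ C`. -/
abbrev Frob (K : Type) [Field K] (C : Subgroup Kˣ) : Type := Multiplicative K ⋊[mulAct K C] ↥C

/-- The minimal Frobenius group with kernel a `p`-group and complement of order `r`. -/
theorem exists_minimal_frobenius (p r : ℕ) [hp : Fact p.Prime] [hr : Fact r.Prime] (hpr : p ≠ r) :
    ∃ (X : Type) (_ : Group X) (_ : Fintype X),
      Nat.card X = p ^ orderOf (p : ZMod r) * r ∧
      Set.range (orderOf : X → ℕ) = {1, p, r} ∧
      (∀ S : Subgroup X, (∃ a ∈ S, orderOf a = p) → (∃ c ∈ S, orderOf c = r) → S = ⊤) ∧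
      ∀ N : Subgroup X, N.Normal → N ≠ ⊥ → ¬ p ∣ N.index := by
  have hpP : p.Prime := hp.out
  have hrP : r.Prime := hr.out
  set f := orderOf (p : ZMod r)
  have hne : (p : ZMod r) ≠ 0 := by
    rw [Ne, ZMod.natCast_eq_zero_iff]
    exact fun h => hpr ((Nat.prime_dvd_prime_iff_eq hrP hpP).1 h).symm
  have hf : f ≠ 0 := by
    have h1 : (p : ZMod r) ^ (r - 1) = 1 := ZMod.pow_card_sub_one_eq_one hne
    intro h0
    rw [orderOf_eq_zero_iff'] at h0
    exact h0 (r - 1) (by have := hrP.two_le; omega) h1
  haveI : Fintype (GaloisField p f) := Fintype.ofFinite _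
  set K := GaloisField p f
  have hK : Nat.card K = p ^ f := GaloisField.card p f hf
  have hrK : r ∣ Nat.card Kˣ := by
    rw [Nat.card_units, hK, ← ZMod.natCast_eq_zero_iff, Nat.cast_sub (Nat.one_le_pow _ _ hpP.pos),
      Nat.cast_pow, Nat.cast_one, pow_orderOf_eq_one, sub_self]
  obtain ⟨z, hz⟩ := exists_prime_orderOf_dvd_card' (G := Kˣ) r hrK
  set C := Subgroup.zpowers z
  have hC : Nat.card C = r := by rw [Nat.card_zpowers, hz]
  haveI : Finite (Frob K C) := Finite.of_equiv _ SemidirectProduct.equivProd.symm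
  haveI : Fintype (Frob K C) := Fintype.ofFinite (Frob K C)
  have hcard : Nat.card (Frob K C) = p ^ f * r := by
    rw [show Nat.card (Frob K C) = Nat.card (Multiplicative K) * Nat.card C from SemidirectProduct.card, hC,
      Nat.card_congr Multiplicative.toAdd, hK]
  have hexp : ∀ v : Multiplicative K, v ^ p = 1 := fun v => by
    apply Multiplicative.toAdd.injective
    rw [toAdd_pow, toAdd_one]
    simp
  have hpowleft : ∀ (x : (Frob K C)) (n : ℕ), (((x.right : Kˣ) : K) - 1) * (x ^ n).left.toAdd =
      (((x.right : Kˣ) : K) ^ n - 1) * x.left.toAdd := by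
    intro x n
    induction n with
    | zero => simp
    | succ n ih =>
      rw [pow_succ', SemidirectProduct.mul_left, toAdd_mul]
      show _ * (x.left.toAdd + ((x.right : Kˣ) : K) * (x ^ n).left.toAdd) = _
      linear_combination ((x.right : Kˣ) : K) * ih
  have hright : ∀ (x : (Frob K C)) (n : ℕ), (x ^ n).right = x.right ^ n := fun x n =>
    map_pow (SemidirectProduct.rightHom (φ := mulAct K C)) x n
  have hCr : ∀ c : ↥C, c ^ r = 1 := fun c => by
    have := pow_card_eq_one' (G := ↥C) (x := c)
    rwa [hC] at this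
  have hinl : ∀ x : (Frob K C), x.right = 1 → x = SemidirectProduct.inl x.left := fun x hx => by
    apply SemidirectProduct.ext <;> simp [hx]
  have hord : ∀ x : (Frob K C), (x.right = 1 → x ^ p = 1) ∧ (x.right ≠ 1 → x ^ r = 1) := by
    intro x
    refine ⟨fun hx => by rw [hinl x hx, ← map_pow, hexp, map_one], fun hx => ?_⟩
    have h1 := hpowleft x r
    have h2 : ((x.right : Kˣ) : K) ^ r = 1 := by
      rw [← Units.val_pow_eq_pow_val, ← SubgroupClass.coe_pow, hCr]; rfl
    rw [h2, sub_self, zero_mul, mul_eq_zero, sub_eq_zero] at h1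
    refine SemidirectProduct.ext (Multiplicative.toAdd.injective ?_) ?_
    · exact h1.resolve_left fun h => hx (Subtype.ext (Units.ext h))
    · rw [hright, hCr]; rfl
  -- invariant additive subgroups are everything
  have hinv : ∀ S : AddSubgroup K, (∃ v ∈ S, v ≠ 0) → (∀ v ∈ S, (z : K) * v ∈ S) → S = ⊤ := by
    rintro S ⟨v, hv, hv0⟩ hzS
    let R : Subring K :=
      { carrier := {x | ∀ w ∈ S, x * w ∈ S}
        one_mem' := fun w hw => by rwa [one_mul]
        mul_mem' := fun {a b} ha hb w hw => by rw [mul_assoc]; exact ha _ (hb w hw)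
        zero_mem' := fun w _ => by rw [zero_mul]; exact S.zero_mem
        add_mem' := fun {a b} ha hb w hw => by rw [add_mul]; exact S.add_mem (ha w hw) (hb w hw)
        neg_mem' := fun {a} ha w hw => by rw [neg_mul]; exact S.neg_mem (ha w hw) }
    haveI : Finite R := Subtype.finite
    letI : Field R := (Finite.isDomain_to_isField R).toField
    obtain ⟨e, -, he⟩ : ∃ e ≤ f, Nat.card R = p ^ e :=
      (Nat.dvd_prime_pow hpP).1 (hK ▸ AddSubgroup.card_addSubgroup_dvd_card R.toAddSubgroup)
    have hzR : (z : K) ∈ R := hzS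
    have hz1 : (⟨(z : K), hzR⟩ : R) ^ r = 1 := Subtype.ext (by
      rw [SubmonoidClass.coe_pow, ← hz, ← Units.val_pow_eq_pow_val, pow_orderOf_eq_one]; rfl)
    have hzne : (⟨(z : K), hzR⟩ : R) ≠ 1 := fun h => by
      have : z = 1 := Units.ext (congrArg Subtype.val h)
      rw [this, orderOf_one] at hz; exact hrP.one_lt.ne hz
    have hro : orderOf (⟨(z : K), hzR⟩ : R) = r := orderOf_eq_prime hz1 hzne
    have hdvd : r ∣ Nat.card R - 1 := by
      rw [← hro]
      have h0 : (⟨(z : K), hzR⟩ : R) ≠ 0 := fun h => z.ne_zero (congrArg Subtype.val h)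
      haveI := Fintype.ofFinite R
      refine orderOf_dvd_of_pow_eq_one ?_
      rw [Nat.card_eq_fintype_card]
      exact FiniteField.pow_card_sub_one_eq_one _ h0
    have he0 : e ≠ 0 := fun h => by
      have h1 : 1 < Nat.card R := Finite.one_lt_card
      rw [he, h, pow_zero] at h1; omega
    have hfe : f ∣ e := by
      refine orderOf_dvd_of_pow_eq_one ?_
      have : ((p ^ e - 1 : ℕ) : ZMod r) = 0 := (ZMod.natCast_eq_zero_iff _ _).2 (he ▸ hdvd)
      rw [Nat.cast_sub (Nat.one_le_pow _ _ hpP.pos), sub_eq_zero] at this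
      simpa using this
    have hRtop : ∀ x : K, x ∈ R := by
      have h1 : R.toAddSubgroup = ⊤ := AddSubgroup.eq_top_of_le_card R.toAddSubgroup (by
        rw [hK]
        show p ^ f ≤ Nat.card R
        rw [he]
        exact Nat.pow_le_pow_right hpP.pos (Nat.le_of_dvd (Nat.pos_of_ne_zero he0) hfe))
      intro x
      exact (h1.symm ▸ AddSubgroup.mem_top x : x ∈ R.toAddSubgroup)
    rw [eq_top_iff]
    intro x _
    have := hRtop (x / v) v hv
    rwa [div_mul_cancel₀ x hv0] at this
  -- a subgroup stable under some `c ≠ 1` of `C` is stable under `z`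
  have hstab : ∀ (T : Subgroup (Frob K C)) (x : (Frob K C)), x ∈ T → x.right ≠ 1 →
      (∃ a ∈ T, a.right = 1 ∧ a ≠ 1) → ∀ v : Multiplicative K, (SemidirectProduct.inl v : (Frob K C)) ∈ T := by
    rintro T x hx hx1 ⟨a, ha, ha1, ha2⟩
    let S : AddSubgroup K :=
      { carrier := {v | (SemidirectProduct.inl (Multiplicative.ofAdd v) : (Frob K C)) ∈ T}
        zero_mem' := by simp
        add_mem' := fun {a b} ha hb => by
          simp only [Set.mem_setOf_eq, ofAdd_add, map_mul] at *; exact mul_mem ha hb
        neg_mem' := fun {a} ha => by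
          simp only [Set.mem_setOf_eq, ofAdd_neg, map_inv] at *; exact inv_mem ha }
    have hxS : ∀ v ∈ S, ((x.right : Kˣ) : K) * v ∈ S := by
      intro v hv
      show (SemidirectProduct.inl (Multiplicative.ofAdd (((x.right : Kˣ) : K) * v)) : (Frob K C)) ∈ T
      have h1 : x * SemidirectProduct.inl (Multiplicative.ofAdd v) * x⁻¹ ∈ T :=
        mul_mem (mul_mem hx hv) (inv_mem hx)
      have h2 : x * SemidirectProduct.inl (Multiplicative.ofAdd v) * x⁻¹ =
          SemidirectProduct.inl (mulAct K C x.right (Multiplicative.ofAdd v)) := by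
        rw [mul_inv_eq_iff_eq_mul]
        apply SemidirectProduct.ext
        · rw [SemidirectProduct.mul_left, SemidirectProduct.mul_left, SemidirectProduct.left_inl,
            SemidirectProduct.left_inl, SemidirectProduct.right_inl, map_one, MulAut.one_apply, mul_comm]
        · rw [SemidirectProduct.mul_right, SemidirectProduct.mul_right, SemidirectProduct.right_inl,
            SemidirectProduct.right_inl, mul_one, one_mul]
      rw [h2] at h1
      exact h1
    have hgen : (⟨z, Subgroup.mem_zpowers z⟩ : ↥C) ∈ Submonoid.powers x.right := by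
      rw [mem_powers_iff_mem_zpowers]
      haveI : Fact (Nat.card ↥C).Prime := ⟨hC.symm ▸ hrP⟩
      rw [show Subgroup.zpowers x.right = ⊤ from zpowers_eq_top_of_prime_card hC hx1]
      exact Subgroup.mem_top _
    obtain ⟨n, hn⟩ := hgen
    have hzS : ∀ v ∈ S, (z : K) * v ∈ S := by
      have : ∀ (m : ℕ), ∀ v ∈ S, ((x.right : Kˣ) : K) ^ m * v ∈ S := by
        intro m
        induction m with
        | zero => intro v hv; rwa [pow_zero, one_mul]
        | succ m ih => intro v hv; rw [pow_succ', mul_assoc]; exact hxS _ (ih v hv)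
      intro v hv
      have h := this n v hv
      rwa [← Units.val_pow_eq_pow_val, ← SubgroupClass.coe_pow, show x.right ^ n = _ from hn] at h
    have htop := hinv S ⟨a.left.toAdd, by
      show (SemidirectProduct.inl (Multiplicative.ofAdd a.left.toAdd) : (Frob K C)) ∈ T
      rw [ofAdd_toAdd, ← hinl a ha1]; exact ha, fun h => ha2 (by
        rw [hinl a ha1, show a.left = 1 from Multiplicative.toAdd.injective h, map_one])⟩ hzS
    intro v
    have : v.toAdd ∈ S := htop ▸ AddSubgroup.mem_top _
    exact this
  refine ⟨(Frob K C), inferInstance, inferInstance, hcard, ?_, ?_, ?_⟩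
  · ext n
    constructor
    · rintro ⟨x, rfl⟩
      by_cases hx : x.right = 1
      · rcases (Nat.dvd_prime hpP).1 (orderOf_dvd_of_pow_eq_one ((hord x).1 hx)) with h | h <;> simp [h]
      · rcases (Nat.dvd_prime hrP).1 (orderOf_dvd_of_pow_eq_one ((hord x).2 hx)) with h | h <;> simp [h]
    · rintro (rfl | rfl | rfl)
      · exact ⟨1, orderOf_one⟩
      · refine ⟨SemidirectProduct.inl (Multiplicative.ofAdd (1 : K)), ?_⟩
        rw [orderOf_injective _ SemidirectProduct.inl_injective]
        exact orderOf_eq_prime (hexp _) fun h => one_ne_zero (α := K) (congrArg (Multiplicative.toAdd (α := K)) h)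
      · refine ⟨SemidirectProduct.inr ⟨z, Subgroup.mem_zpowers z⟩, ?_⟩
        rw [orderOf_injective _ SemidirectProduct.inr_injective, Subgroup.orderOf_mk, hz]
  · rintro S ⟨a, ha, hap⟩ ⟨c, hc, hcr⟩
    have hc1 : c.right ≠ 1 := fun h => hpr (by
      have := orderOf_dvd_of_pow_eq_one ((hord c).1 h)
      rw [hcr] at this
      exact ((Nat.prime_dvd_prime_iff_eq hrP hpP).1 this).symm)
    have ha1 : a.right = 1 := by
      by_contra h
      have := orderOf_dvd_of_pow_eq_one ((hord a).2 h)
      rw [hap] at this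
      exact hpr ((Nat.prime_dvd_prime_iff_eq hpP hrP).1 this)
    have hA := hstab S c hc hc1 ⟨a, ha, ha1, fun h => hpP.one_lt.ne (by rw [← hap, h, orderOf_one])⟩
    rw [eq_top_iff]
    intro y _
    have hy : y.right ∈ Submonoid.powers c.right := by
      rw [mem_powers_iff_mem_zpowers]
      haveI : Fact (Nat.card ↥C).Prime := ⟨hC.symm ▸ hrP⟩
      rw [show Subgroup.zpowers c.right = ⊤ from zpowers_eq_top_of_prime_card hC hc1]
      exact Subgroup.mem_top _
    obtain ⟨n, hn⟩ := hy
    have h2 : (y * (c ^ n)⁻¹).right = 1 := by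
      rw [SemidirectProduct.mul_right, SemidirectProduct.inv_right, hright]
      rw [show c.right ^ n = y.right from hn, mul_inv_cancel]
    have h3 : y * (c ^ n)⁻¹ ∈ S := by rw [hinl _ h2]; exact hA _
    have := mul_mem h3 (pow_mem hc n)
    rwa [inv_mul_cancel_right] at this
  · intro N hN hN1
    obtain ⟨x, hx, hx1⟩ := N.bot_or_exists_ne_one.resolve_left hN1
    obtain ⟨a, ha, ha1, ha2⟩ : ∃ a ∈ N, a.right = 1 ∧ a ≠ 1 := by
      by_cases h : x.right = 1
      · exact ⟨x, hx, h, hx1⟩
      · refine ⟨SemidirectProduct.inl (Multiplicative.ofAdd (1 : K)) * x *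
          (SemidirectProduct.inl (Multiplicative.ofAdd (1 : K)))⁻¹ * x⁻¹,
          mul_mem (hN.conj_mem x hx _) (inv_mem hx), ?_, ?_⟩
        · simp
        · intro heq
          replace heq := mul_inv_eq_iff_eq_mul.1 (mul_inv_eq_one.1 heq)
          have := congrArg (fun y : (Frob K C) => y.left.toAdd) heq
          simp only [SemidirectProduct.mul_left, SemidirectProduct.left_inl, SemidirectProduct.right_inl,
            map_one, MulAut.one_apply, toAdd_mul, toAdd_ofAdd] at this
          rw [show (mulAct K C x.right (Multiplicative.ofAdd (1 : K))).toAdd = ((x.right : Kˣ) : K) * 1 from rfl,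
            mul_one, add_comm, add_left_cancel_iff] at this
          exact h (Subtype.ext (Units.ext this.symm))
    have hA : ∀ v, (SemidirectProduct.inl v : (Frob K C)) ∈ N := by
      let T : Subgroup (Frob K C) := N ⊔ (SemidirectProduct.inr (φ := mulAct K C)).range
      intro v
      let S : AddSubgroup K :=
        { carrier := {v | (SemidirectProduct.inl (Multiplicative.ofAdd v) : (Frob K C)) ∈ N}
          zero_mem' := by simp
          add_mem' := fun {a b} ha hb => by
            simp only [Set.mem_setOf_eq, ofAdd_add, map_mul] at *; exact mul_mem ha hb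
          neg_mem' := fun {a} ha => by
            simp only [Set.mem_setOf_eq, ofAdd_neg, map_inv] at *; exact inv_mem ha }
      have hS : S = ⊤ := hinv S ⟨a.left.toAdd, by
        show (SemidirectProduct.inl (Multiplicative.ofAdd a.left.toAdd) : (Frob K C)) ∈ N
        rw [ofAdd_toAdd, ← hinl a ha1]; exact ha, fun h => ha2 (by
          rw [hinl a ha1, show a.left = 1 from Multiplicative.toAdd.injective h, map_one])⟩ (fun w hw => by
        show (SemidirectProduct.inl (mulAct K C ⟨z, Subgroup.mem_zpowers z⟩ (Multiplicative.ofAdd w)) : (Frob K C)) ∈ N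
        rw [SemidirectProduct.inl_aut]
        simpa using hN.conj_mem _ hw (SemidirectProduct.inr ⟨z, Subgroup.mem_zpowers z⟩))
      have : v.toAdd ∈ S := hS ▸ AddSubgroup.mem_top _
      exact this
    intro hdvd
    have hle : (SemidirectProduct.inl (φ := mulAct K C)).range ≤ N := by
      rintro _ ⟨v, rfl⟩; exact hA v
    have h1 : N.index ∣ r := by
      refine (Subgroup.index_dvd_of_le hle).trans ?_
      rw [SemidirectProduct.range_inl_eq_ker_rightHom, Subgroup.index_ker,
        MonoidHom.range_eq_top.2 SemidirectProduct.rightHom_surjective, Subgroup.card_top, hC]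
    exact hpr ((Nat.prime_dvd_prime_iff_eq hpP hrP).1 (hdvd.trans h1))

theorem range_orderOf_pi {s : ℕ} {X : Fin s → Type} [∀ j, Group (X j)] [∀ j, Fintype (X j)]
    (p : Fin s → Fin 2 → ℕ) (hp : ∀ j i, (p j i).Prime)
    (hinj : ∀ j i j' i', p j i = p j' i' → j = j' ∧ i = i')
    (hX : ∀ j, Set.range (orderOf : X j → ℕ) = {1, p j 0, p j 1}) :
    Set.range (orderOf : (∀ j, X j) → ℕ) =
      {m : ℕ | ∃ c : Fin s → ℕ, (∀ j, c j = 1 ∨ c j = p j 0 ∨ c j = p j 1) ∧ m = ∏ j, c j} := by
  classical
  have key : ∀ x : ∀ j, X j, orderOf x = ∏ j, orderOf (x j) := by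
    intro x
    have hco : Pairwise fun i j => (orderOf (x i)).Coprime (orderOf (x j)) := by
      intro i j hij
      have hi : orderOf (x i) ∈ ({1, p i 0, p i 1} : Set ℕ) := hX i ▸ ⟨x i, rfl⟩
      have hj : orderOf (x j) ∈ ({1, p j 0, p j 1} : Set ℕ) := hX j ▸ ⟨x j, rfl⟩
      have hne : ∀ a b, p i a ≠ p j b := fun a b h => hij (hinj _ _ _ _ h).1
      rcases hi with h | h | h <;> rcases hj with h' | h' | h' <;> rw [h, h'] <;>
        first
          | exact Nat.coprime_one_left _
          | exact Nat.coprime_one_right _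
          | exact (Nat.coprime_primes (hp _ _) (hp _ _)).2 (hne _ _)
    refine Nat.dvd_antisymm (orderOf_dvd_of_pow_eq_one ?_) ?_
    · funext j
      rw [Pi.pow_apply, Pi.one_apply, ← orderOf_dvd_iff_pow_eq_one]
      exact Finset.dvd_prod_of_mem (fun j => orderOf (x j)) (Finset.mem_univ j)
    · refine Fintype.prod_dvd_of_isRelPrime (fun i j hij => Nat.coprime_iff_isRelPrime.1 (hco hij)) fun j => ?_
      exact
        orderOf_dvd_of_pow_eq_one (by rw [← Pi.pow_apply, pow_orderOf_eq_one, Pi.one_apply])
  ext m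
  constructor
  · rintro ⟨x, rfl⟩
    refine ⟨fun j => orderOf (x j), fun j => ?_, key x⟩
    have : orderOf (x j) ∈ ({1, p j 0, p j 1} : Set ℕ) := hX j ▸ ⟨x j, rfl⟩
    simpa using this
  · rintro ⟨c, hc, rfl⟩
    have : ∀ j, ∃ y : X j, orderOf y = c j := fun j => by
      have : c j ∈ Set.range (orderOf : X j → ℕ) := by rw [hX j]; simpa using hc j
      exact this
    choose y hy using this
    exact ⟨y, by rw [key]; simp only [hy]⟩

end CfsgLib.CriticalSpec
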