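import Cfsg.Agent.Frobenius.Basic
import Cfsg.Agent.Solvable.CoprimeAct
import Cfsg.Agent.Solvable.PGroupBasic
import Mathlib.GroupTheory.Frattini

/-! The averaging argument behind "a Frobenius quotient gives elements of order `p * |H|`". -/

set_option autoImplicit false
set_option linter.style.haveILetI false

namespace CfsgLib.FrobeniusLift

variable {G : Type*} [Group G]

/-- Conjugation by an element of the normalizer, followed by the map to the Frattini quotient. -/
noncomputable def T (P : Subgroup G) (g : Subgroup.normalizer (P : Set G)) :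
    P →* P ⧸ frattini P :=
  (QuotientGroup.mk' (frattini P)).comp
    { toFun := fun v => ⟨g * v * (g : G)⁻¹, (Subgroup.mem_normalizer_iff.1 g.2 v).1 v.2⟩
      map_one' := Subtype.ext (by simp)
      map_mul' := fun a b => Subtype.ext (by simp [mul_assoc]) }

theorem T_apply (P : Subgroup G) (g h : Subgroup.normalizer (P : Set G)) (v w : P)
    (e : (g : G) * v * (g : G)⁻¹ = h * w * (h : G)⁻¹) : T P g v = T P h w := by
  simp only [T, MonoidHom.comp_apply]
  exact congrArg _ (Subtype.ext e)

theorem T_one (P : Subgroup G) (v : P) : T P 1 v = QuotientGroup.mk' (frattini P) v := by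
  simp only [T, MonoidHom.comp_apply]
  exact congrArg _ (Subtype.ext (by simp))

theorem frattini_le_ker (P : Subgroup G) (g : Subgroup.normalizer (P : Set G)) :
    frattini P ≤ (T P g).ker := by
  intro v hv
  have h := (Subgroup.characteristic_iff_comap_eq.1 (inferInstance : (frattini P).Characteristic))
    (Subgroup.normalizerMonoidHom P g)
  rw [MonoidHom.mem_ker, T, MonoidHom.comp_apply, QuotientGroup.mk'_apply, QuotientGroup.eq_one_iff]
  have hv' : v ∈ (frattini P).comap (Subgroup.normalizerMonoidHom P g).toMonoidHom := by rw [h]; exact hv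
  exact hv'

/-- If every element of the coset `x P` and of its `Q`-conjugates has order dividing `m`, and
`⟨x⟩` acts without fixed points on `Q`, then `Q` centralises `P`. -/
theorem centralizes [Finite G] {p : ℕ} [Fact p.Prime] (P Q : Subgroup G) (hP : IsPGroup p P)
    (hQP : Q ≤ Subgroup.normalizer (P : Set G)) (hcop : (Nat.card Q).Coprime (Nat.card P))
    {x : G} (hxP : x ∈ Subgroup.normalizer (P : Set G)) (hxQ : x ∈ Subgroup.normalizer (Q : Set G))
    {m : ℕ} (hm : 0 < m) (hxm : x ^ m = 1)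
    (hfpf : ∀ a ∈ Q, ∀ j, 0 < j → j < m → a * x ^ j = x ^ j * a → a = 1)
    (hord : ∀ a ∈ Q, ∀ v ∈ P, (a * x * a⁻¹ * v) ^ m = 1) :
    Q ≤ Subgroup.centralizer (P : Set G) := by
  classical
  haveI : Fintype Q := Fintype.ofFinite Q
  letI : CommGroup (P ⧸ frattini P) :=
    { (inferInstance : Group (P ⧸ frattini P)) with
      mul_comm := (Subgroup.Normal.quotient_commutative_iff_commutator_le.2
        (CfsgLib.PGroupBasic.commutator_pow_le_frattini hP).1).is_comm.comm }
  set π := QuotientGroup.mk' (frattini P)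
  let X : Subgroup.normalizer (P : Set G) := ⟨x, hxP⟩
  let q : Q → Subgroup.normalizer (P : Set G) := fun a => ⟨a, hQP a.2⟩
  -- the norm of `v` along a conjugate of `x` is trivial
  have hnorm : ∀ (y : Subgroup.normalizer (P : Set G)), (∀ v ∈ P, ((y : G) * v) ^ m = 1) →
      ∀ v : P, ∏ i ∈ Finset.range m, T P (y ^ (i + 1)) v = 1 := by
    intro y hy v
    have key : ∀ k : ℕ, ∃ A : P, ((y : G) * v) ^ k = A * (y : G) ^ k ∧
        π A = ∏ i ∈ Finset.range k, T P (y ^ (i + 1)) v := by
      intro k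
      induction k with
      | zero => exact ⟨1, by simp, by simp⟩
      | succ k ih =>
        obtain ⟨A, hA, hA'⟩ := ih
        have hmem : (y : G) ^ (k + 1) * v * ((y : G) ^ (k + 1))⁻¹ ∈ P :=
          (Subgroup.mem_normalizer_iff.1 (Subgroup.pow_mem _ y.2 _) v).1 v.2
        refine ⟨A * ⟨_, hmem⟩, ?_, ?_⟩
        · rw [pow_succ, hA, Subgroup.coe_mul]
          simp only [pow_succ, mul_assoc, inv_mul_cancel, mul_one]
        · rw [map_mul, hA', Finset.prod_range_succ]
          congr 1
    obtain ⟨A, hA, hA'⟩ := key m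
    have hym : (y : G) ^ m = 1 := by simpa using hy 1 P.one_mem
    rw [hy v v.2, hym, mul_one] at hA
    rw [← hA', show A = 1 from Subtype.ext hA.symm, map_one]
  let F : P →* P ⧸ frattini P := ∏ b : Q, T P (q b)
  have hF : ∀ v : P, F v = ∏ b : Q, T P (q b) v := fun v => MonoidHom.finsetProd_apply _ _ _
  let F' : P ⧸ frattini P →* P ⧸ frattini P := QuotientGroup.lift (frattini P) F fun v hv => by
    rw [MonoidHom.mem_ker, hF]
    exact Finset.prod_eq_one fun b _ => frattini_le_ker P (q b) hv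
  have hF' : ∀ v : P, F' (π v) = F v := fun v => QuotientGroup.lift_mk' _ _ v
  have hxj : ∀ j (v : P), x ^ j * v * (x ^ j)⁻¹ ∈ P := fun j v =>
    (Subgroup.mem_normalizer_iff.1 (Subgroup.pow_mem _ hxP _) v).1 v.2
  -- rearrange the double product
  have hswap : ∀ (j : ℕ), 0 < j → j < m → ∀ v : P,
      ∏ a : Q, T P ((q a * X * (q a)⁻¹) ^ j) v = F' (T P (X ^ j) v) := by
    intro j hj hjm v
    have hmem : ∀ a : Q, (a : G) * x ^ j * (a : G)⁻¹ * (x ^ j)⁻¹ ∈ Q := fun a => by
      have := Q.mul_mem a.2 ((Subgroup.mem_normalizer_iff.1 (Subgroup.pow_mem _ hxQ j) _).1 (Q.inv_mem a.2))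
      simpa [mul_assoc] using this
    have hbij : Function.Bijective fun a : Q => (⟨_, hmem a⟩ : Q) := by
      refine Finite.injective_iff_bijective.1 fun a b hab => ?_
      have e : (a : G) * x ^ j * (a : G)⁻¹ = b * x ^ j * (b : G)⁻¹ :=
        mul_right_cancel (congrArg Subtype.val hab)
      have h1 := hfpf ((b : G)⁻¹ * a) (Q.mul_mem (Q.inv_mem b.2) a.2) j hj hjm (by
        calc (b : G)⁻¹ * a * x ^ j = (b : G)⁻¹ * ((a : G) * x ^ j * (a : G)⁻¹) * a := by group
          _ = (b : G)⁻¹ * ((b : G) * x ^ j * (b : G)⁻¹) * a := by rw [e]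
          _ = x ^ j * ((b : G)⁻¹ * a) := by group)
      exact Subtype.ext (inv_mul_eq_one.1 h1).symm
    have e : T P (X ^ j) v = π ⟨_, hxj j v⟩ := by
      rw [← T_one]; exact T_apply P _ _ _ _ (by simp [X])
    rw [e, hF', hF]
    refine Fintype.prod_bijective _ hbij _ _ fun a => T_apply P _ _ _ _ ?_
    rw [conj_pow]
    simp only [q, X, Subgroup.coe_mul, InvMemClass.coe_inv, SubmonoidClass.coe_pow]
    group
  intro c hc
  refine CfsgLib.CoprimeAct.trivial_on_frattini_quotient hQP
    (hcop.coprime_dvd_right (frattini P).card_subgroup_dvd_card) (fun c hc k hk => ?_) hc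
  have hconst : ∀ v : P, π v ^ Fintype.card Q = F v := by
    intro v
    obtain ⟨m', rfl⟩ : ∃ m', m = m' + 1 := ⟨m - 1, by omega⟩
    have h1 : ∏ a : Q, ∏ i ∈ Finset.range (m' + 1), T P ((q a * X * (q a)⁻¹) ^ (i + 1)) v = 1 :=
      Finset.prod_eq_one fun a _ => hnorm (q a * X * (q a)⁻¹) (fun w hw => hord a a.2 w hw) v
    have hX : X ^ (m' + 1) = 1 := Subtype.ext hxm
    have h2 : ∀ a : Q, T P ((q a * X * (q a)⁻¹) ^ (m' + 1)) v = π v := fun a => by
      rw [conj_pow, hX, mul_one, mul_inv_cancel, T_one]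
    have h3 : ∀ u : P, ∏ i ∈ Finset.range (m' + 1), T P (X ^ (i + 1)) u = 1 :=
      hnorm X fun w hw => by simpa using hord 1 Q.one_mem w hw
    simp only [Finset.prod_range_succ, Finset.prod_mul_distrib] at h1
    simp only [h2, Finset.prod_const, Finset.card_univ] at h1
    rw [Finset.prod_comm, Finset.prod_congr rfl (fun i hi => hswap (i + 1) (by omega)
      (by have := Finset.mem_range.1 hi; omega) v), ← map_prod] at h1
    have h4 := h3 v
    rw [Finset.prod_range_succ, hX, T_one] at h4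
    rw [eq_inv_of_mul_eq_one_left h4, map_inv, hF', inv_mul_eq_one] at h1
    exact h1.symm
  -- `c` fixes the Frattini quotient
  have hk' : c * k * c⁻¹ ∈ P := (Subgroup.mem_normalizer_iff.1 (hQP hc) k).1 hk
  have hFc : F ⟨_, hk'⟩ = F ⟨k, hk⟩ := by
    rw [hF, hF]
    refine Fintype.prod_bijective (fun b : Q => b * ⟨c, hc⟩) (Group.mulRight_bijective _) _ _
      fun b => T_apply P _ _ _ _ ?_
    simp [q, mul_assoc]
  have hpow : (π ⟨_, hk'⟩ * (π ⟨k, hk⟩)⁻¹) ^ Fintype.card Q = 1 := by
    rw [mul_pow, inv_pow, hconst, hconst, hFc, mul_inv_cancel]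
  have hpg : IsPGroup p (P ⧸ frattini P) := hP.to_quotient _
  have h1 : π ⟨_, hk'⟩ * (π ⟨k, hk⟩)⁻¹ = 1 := by
    rw [← orderOf_eq_one_iff]
    refine Nat.eq_one_of_dvd_coprimes hcop ?_ ((orderOf_dvd_natCard _).trans
      (frattini P).card_quotient_dvd_card)
    rw [Nat.card_eq_fintype_card]
    exact orderOf_dvd_of_pow_eq_one hpow
  rw [← map_inv, ← map_mul, QuotientGroup.mk'_apply, QuotientGroup.eq_one_iff] at h1
  exact ⟨_, h1, rfl⟩

end CfsgLib.FrobeniusLift
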