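import Cfsg.Agent.Frobenius.Semidirect
import Cfsg.Agent.Solvable.Hall
import Cfsg.Agent.Solvable.Basics
import Mathlib.GroupTheory.SchurZassenhaus
import Mathlib.GroupTheory.SpecificGroups.Cyclic

/-!
A solvable group with disconnected prime graph is Frobenius or 2-Frobenius.
-/

set_option autoImplicit false
set_option linter.unusedSectionVars false
set_option linter.style.haveILetI false

namespace CfsgLib.SolvDisconnected

open Subgroup
open scoped commutatorElement

universe u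

variable {G : Type u} [Group G]

/-- Every prime divisor of the order of `x` satisfies `P`. -/
def Elt (P : ℕ → Prop) (x : G) : Prop := ∀ r : ℕ, r.Prime → r ∣ orderOf x → P r

/-- Every prime divisor of the order of `H` satisfies `P`. -/
def Sub' (P : ℕ → Prop) (H : Subgroup G) : Prop := ∀ r : ℕ, r.Prime → r ∣ Nat.card H → P r

theorem elt_of_mem {P : ℕ → Prop} {H : Subgroup G} (h : Sub' P H) {x : G} (hx : x ∈ H) : Elt P x :=
  fun r hr hd => h r hr (hd.trans (Subgroup.orderOf_dvd_natCard H hx))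

theorem inf_eq_bot [Finite G] {P : ℕ → Prop} {A B : Subgroup G} (hA : Sub' P A)
    (hB : Sub' (fun r => ¬ P r) B) : A ⊓ B = ⊥ := by
  refine inf_eq_bot_of_coprime (Nat.coprime_of_dvd fun r hr h1 h2 => ?_)
  exact hB r hr h2 (hA r hr h1)

/-- No mixed commuting pairs. -/
def NoMix (G : Type u) [Group G] (P : ℕ → Prop) : Prop :=
  ∀ x y : G, Commute x y → Elt P x → Elt (fun r => ¬ P r) y → x = 1 ∨ y = 1

theorem noMix_of_hyp [Finite G] (P : ℕ → Prop)
    (h : ∀ a b : ℕ, a.Prime → b.Prime → a ∣ Nat.card G → b ∣ Nat.card G → P a → ¬ P b →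
      ¬ ∃ g : G, orderOf g = a * b) : NoMix G P := by
  intro x y hc hx hy
  by_contra hne
  rw [not_or] at hne
  obtain ⟨a, ha, hax⟩ := Nat.exists_prime_and_dvd (mt orderOf_eq_one_iff.1 hne.1)
  obtain ⟨b, hb, hby⟩ := Nat.exists_prime_and_dvd (mt orderOf_eq_one_iff.1 hne.2)
  have hpa : orderOf (x ^ (orderOf x / a)) = a := by
    rw [orderOf_pow_of_dvd (Nat.div_pos (Nat.le_of_dvd (orderOf_pos x) hax) ha.pos).ne'
      (Nat.div_dvd_of_dvd hax), Nat.div_div_self hax (orderOf_pos x).ne']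
  have hpb : orderOf (y ^ (orderOf y / b)) = b := by
    rw [orderOf_pow_of_dvd (Nat.div_pos (Nat.le_of_dvd (orderOf_pos y) hby) hb.pos).ne'
      (Nat.div_dvd_of_dvd hby), Nat.div_div_self hby (orderOf_pos y).ne']
  refine h a b ha hb (hax.trans (orderOf_dvd_natCard x)) (hby.trans (orderOf_dvd_natCard y))
    (hx a ha hax) (hy b hb hby) ⟨x ^ (orderOf x / a) * y ^ (orderOf y / b), ?_⟩
  have hab : a ≠ b := fun e => hy b hb hby (e ▸ hx a ha hax)
  rw [(hc.pow_pow _ _).orderOf_mul_eq_mul_orderOf_of_coprime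
    (by rw [hpa, hpb]; exact (Nat.coprime_primes ha hb).2 hab), hpa, hpb]

/-- The conclusion. -/
def Concl (G : Type u) [Group G] : Prop :=
  (∃ C : Subgroup G, Cfsg.IsFrobeniusComplement C) ∨
    (∃ (H K : Subgroup G) (_ : H.Normal), K.Normal ∧ H < K ∧
      (∃ C : Subgroup ↥K, Cfsg.IsFrobeniusComplement C ∧
        Cfsg.frobeniusKernel C = (H.subgroupOf K : Set ↥K)) ∧
      (∃ C : Subgroup (G ⧸ H), Cfsg.IsFrobeniusComplement C ∧
        Cfsg.frobeniusKernel C = (K.map (QuotientGroup.mk' H) : Set (G ⧸ H))))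

theorem normal_of_commutator_le {N : Type*} [Group N] {T : Subgroup N} (h : commutator N ≤ T) :
    T.Normal :=
  ⟨fun x hx g => by
    have h1 : ⁅g, x⁆ ∈ T := h (commutator_mem_commutator (mem_top g) (mem_top x))
    have h2 := T.mul_mem h1 hx
    rwa [commutatorElement_def, inv_mul_cancel_right] at h2⟩

variable [Finite G]

theorem two_step [Group.IsSolvable G] (P : ℕ → Prop) (hno : NoMix G P)
    (hP : ∃ M : Subgroup G, M.Normal ∧ M ≠ ⊥ ∧ Sub' P M)
    (hQ : ∃ b : ℕ, b.Prime ∧ b ∣ Nat.card G ∧ ¬ P b) : Concl G := by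
  classical
  obtain ⟨M, hMn, hM1, hMP⟩ := hP
  obtain ⟨H, hMH, hHmax⟩ := Finite.exists_le_maximal
    (p := fun H : Subgroup G => H.Normal ∧ Sub' P H) ⟨hMn, hMP⟩
  haveI : H.Normal := hHmax.1.1
  have hHP : Sub' P H := hHmax.1.2
  have hH1 : H ≠ ⊥ := ne_bot_of_le_ne_bot hM1 hMH
  -- a minimal normal subgroup of the quotient
  obtain ⟨b, hb, hbG, hbP⟩ := hQ
  haveI : Nontrivial (G ⧸ H) := by
    refine Finite.one_lt_card_iff_nontrivial.1
      (Nat.one_lt_iff_ne_zero_and_ne_one.2 ⟨Nat.card_pos.ne', fun h => hbP (hHP b hb ?_)⟩)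
    rwa [Subgroup.card_eq_card_quotient_mul_card_subgroup H, h, one_mul] at hbG
  haveI : Group.IsSolvable (G ⧸ H) :=
    Group.isSolvable_of_surjective (QuotientGroup.mk'_surjective H)
  obtain ⟨Mb, hMb, hMb1, -, hMbc, -, s, hs, hMbe, hMbp⟩ :=
    CfsgLib.Solvable.exists_normal_elementary_le (N := (⊤ : Subgroup (G ⧸ H))) top_ne_bot inferInstance
  haveI : Fact s.Prime := ⟨hs⟩
  set K0 := Mb.comap (QuotientGroup.mk' H) with hK0
  have hHK0 : H ≤ K0 := fun x hx => by
    rw [hK0, mem_comap, QuotientGroup.mk'_apply, (QuotientGroup.eq_one_iff x).2 hx]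
    exact one_mem _
  have hrel : H.relIndex K0 = Nat.card Mb := by
    have h := Subgroup.relIndex_comap (⊥ : Subgroup (G ⧸ H)) (QuotientGroup.mk' H) K0
    rw [MonoidHom.comap_bot, QuotientGroup.ker_mk', hK0,
      Subgroup.map_comap_eq_self_of_surjective (QuotientGroup.mk'_surjective H), relIndex_bot_left] at h
    exact h
  obtain ⟨j, hj⟩ := IsPGroup.iff_card.1 hMbp
  have hsP : ¬ P s := by
    intro hsP
    have hle : K0 ≤ H := by
      refine hHmax.2 ⟨inferInstance, fun r hr hd => ?_⟩ hHK0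
      rw [← relIndex_bot_left K0, ← relIndex_mul_relIndex ⊥ H K0 bot_le hHK0, relIndex_bot_left,
        hrel, hj] at hd
      rcases hr.dvd_mul.1 hd with hd | hd
      · exact hHP r hr hd
      · exact (Nat.prime_dvd_prime_iff_eq hr hs).1 (hr.dvd_of_dvd_pow hd) ▸ hsP
    have h1 : H.relIndex K0 = 1 := relIndex_eq_one.2 hle
    exact hMb1 (eq_bot_of_card_eq Mb (hrel ▸ h1))
  -- the Frattini argument
  obtain ⟨Q⟩ := (inferInstance : Nonempty (Sylow s K0))
  set V : Subgroup G := (Q : Subgroup K0).map K0.subtype with hV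
  have hVs : IsPGroup s V := Q.2.map _
  have hVP : Sub' (fun r => ¬ P r) V := fun r hr hd => by
    obtain ⟨k, hk⟩ := IsPGroup.iff_card.1 hVs
    rw [hk] at hd
    exact (Nat.prime_dvd_prime_iff_eq hr hs).1 (hr.dvd_of_dvd_pow hd) ▸ hsP
  have hHV : H ⊓ V = ⊥ := inf_eq_bot hHP hVP
  have hVK : V ≤ K0 := map_subtype_le _
  have hK0sup : H ⊔ V = K0 := by
    refine le_antisymm (sup_le hHK0 hVK) (relIndex_eq_one.1 (Nat.dvd_one.1 ?_))
    have h1 : (H ⊔ V).relIndex K0 ∣ H.relIndex K0 := relIndex_dvd_of_le_left K0 le_sup_left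
    have h2 : (H ⊔ V).relIndex K0 ∣ V.relIndex K0 := relIndex_dvd_of_le_left K0 le_sup_right
    have h3 : V.relIndex K0 = (Q : Subgroup K0).index := by
      rw [Subgroup.relIndex, Subgroup.subgroupOf, hV,
        comap_map_eq_self_of_injective K0.subtype_injective]
    rw [hrel, hj] at h1
    rw [h3] at h2
    exact ((hs.coprime_iff_not_dvd.2 Q.not_dvd_index).pow_left j) ▸ Nat.dvd_gcd h1 h2
  set N : Subgroup G := normalizer (V : Set G) with hN
  have hNH : N ⊔ H = ⊤ := by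
    refine eq_top_iff.2 ?_
    rw [← Sylow.normalizer_sup_eq_top Q]
    refine sup_le le_sup_left ?_
    rw [← hK0sup]
    exact sup_le le_sup_right (le_trans le_normalizer le_sup_left)
  have hV1 : V ≠ ⊥ := fun h => hMb1 (by
    rw [h, sup_bot_eq] at hK0sup
    refine eq_bot_of_card_eq Mb ?_
    rw [← hrel, ← hK0sup, relIndex_self])
  obtain ⟨q, hq, hq1⟩ := V.bot_or_exists_ne_one.resolve_left hV1
  have hqP := elt_of_mem hVP hq
  have hNdis : H ⊓ N = ⊥ := by
    refine (eq_bot_iff_forall _).2 fun n hn => ?_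
    have hc : n * q * n⁻¹ * q⁻¹ ∈ H ⊓ V := by
      refine ⟨?_, V.mul_mem ((mem_normalizer_iff.1 hn.2 q).1 hq) (V.inv_mem hq)⟩
      rw [show n * q * n⁻¹ * q⁻¹ = n * (q * n⁻¹ * q⁻¹) by group]
      exact mul_mem hn.1 (Subgroup.Normal.conj_mem inferInstance _ (inv_mem hn.1) q)
    rw [hHV, mem_bot] at hc
    exact (hno n q (mul_inv_eq_iff_eq_mul.1 (mul_inv_eq_one.1 hc)) (elt_of_mem hHP hn.1)
      hqP).resolve_right hq1
  -- `V` has prime order
  have hVc : ∀ a ∈ V, ∀ c ∈ V, a * c = c * a := by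
    intro a ha c hc
    have h1 : ⁅a, c⁆ ∈ H ⊓ V := by
      refine ⟨(QuotientGroup.eq_one_iff _).1 ?_, ?_⟩
      · show QuotientGroup.mk' H ⁅a, c⁆ = 1
        rw [map_commutatorElement, commutatorElement_eq_one_iff_mul_comm]
        exact congrArg Subtype.val (hMbc.is_comm.comm (⟨_, hVK ha⟩ : Mb) ⟨_, hVK hc⟩)
      · exact V.mul_mem (V.mul_mem (V.mul_mem ha hc) (V.inv_mem ha)) (V.inv_mem hc)
    rw [hHV, mem_bot] at h1
    exact commutatorElement_eq_one_iff_mul_comm.1 h1
  have hVe : ∀ a ∈ V, a ^ s = 1 := by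
    intro a ha
    have h1 : a ^ s ∈ H ⊓ V := by
      refine ⟨(QuotientGroup.eq_one_iff _).1 ?_, pow_mem ha s⟩
      show QuotientGroup.mk' H (a ^ s) = 1
      rw [map_pow]; exact hMbe _ (hVK ha)
    rwa [hHV, mem_bot] at h1
  have hfpfV : ∀ v ∈ V, v ≠ 1 → ∀ h ∈ H, v * h = h * v → h = 1 := fun v hv hv1 h hh hc =>
    (hno h v hc.symm (elt_of_mem hHP hh) (elt_of_mem hVP hv)).resolve_right hv1
  have hVcard : Nat.card V = s := by
    obtain ⟨k, hk⟩ := IsPGroup.iff_card.1 hVs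
    rcases k with _ | _ | k
    · rw [pow_zero] at hk; exact absurd (eq_bot_of_card_eq V hk) hV1
    · rw [hk, zero_add, pow_one]
    exfalso
    obtain ⟨E, hE⟩ := Sylow.exists_subgroup_card_pow_prime (G := V) s
      (show s ^ 2 ∣ Nat.card V by rw [hk]; exact pow_dvd_pow s (by omega))
    haveI : Nontrivial H := (nontrivial_iff_ne_bot H).2 hH1
    let φ : E →* MulAut H := MulAut.conjNormal.comp (V.subtype.comp E.subtype)
    have hφ : CfsgLib.Frobenius.IsFpf φ := fun e he h hh => Subtype.ext (hfpfV e e.1.2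
      (fun h1 => he (Subtype.ext (Subtype.ext h1))) h h.2
      (mul_inv_eq_iff_eq_mul.1 ((MulAut.conjNormal_apply _ _).symm.trans (congrArg Subtype.val hh))))
    haveI := hφ.isCyclic_of_card hs hs (by rw [hE, pow_two])
    obtain ⟨g, hg⟩ := IsCyclic.exists_generator (α := E)
    have h1 : orderOf g = s ^ 2 := by rw [orderOf_eq_card_of_forall_mem_zpowers hg, hE]
    have h2 : orderOf g ∣ s :=
      orderOf_dvd_of_pow_eq_one (Subtype.ext (Subtype.ext (hVe _ g.1.2)))
    rw [h1] at h2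
    have h3 := Nat.le_of_dvd hs.pos h2
    have := hs.two_le
    nlinarith
  haveI : IsCyclic V := isCyclic_of_prime_card hVcard
  -- the centralizer of `V` in `N`
  let act : N →* (ZMod (Nat.card V))ˣ :=
    (IsCyclic.mulAutMulEquiv V).toMonoidHom.comp V.normalizerMonoidHom
  have hCP : Sub' (fun r => ¬ P r) act.ker := by
    intro r hr hd hPr
    haveI : Fact r.Prime := ⟨hr⟩
    obtain ⟨c, hc⟩ := exists_prime_orderOf_dvd_card' (G := act.ker) r hd
    have h1 : V.normalizerMonoidHom (c : N) = 1 :=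
      (IsCyclic.mulAutMulEquiv V).injective (c.2.trans (map_one _).symm)
    have h2 : ((c : N) : G) * q * ((c : N) : G)⁻¹ = q :=
      congrArg Subtype.val (show V.normalizerMonoidHom (c : N) (⟨q, hq⟩ : V) = (⟨q, hq⟩ : V) by
        rw [h1]; rfl)
    have hco : orderOf ((c : N) : G) = r := by rw [Subgroup.orderOf_coe, Subgroup.orderOf_coe, hc]
    rcases hno _ _ (mul_inv_eq_iff_eq_mul.1 h2)
        (fun t ht htd => (Nat.prime_dvd_prime_iff_eq ht hr).1 (hco ▸ htd) ▸ hPr) hqP with h | h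
    · rw [h, orderOf_one] at hco; exact hr.ne_one hco.symm
    · exact hq1 h
  haveI : Group.IsSolvable N := Group.isSolvable_of_isSolvable_injective N.subtype_injective
  obtain ⟨T, hT1, hT2, hT3⟩ := CfsgLib.Hall.hall_pi (G := N) (fun r => ¬ P r)
  have hCT : act.ker ≤ T := by
    obtain ⟨g, hg⟩ := hT3 act.ker hCP
    rwa [Subgroup.Normal.conj_smul_eq_self g act.ker] at hg
  haveI : T.Normal :=
    normal_of_commutator_le ((Abelianization.commutator_subset_ker act).trans hCT)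
  -- transfer facts to `G`
  set Tg : Subgroup G := T.map N.subtype with hTg
  have hTN : Tg ≤ N := map_subtype_le _
  have hTgP : Sub' (fun r => ¬ P r) Tg := fun r hr hd => hT1 r hr (by
    rwa [hTg, Nat.card_congr (T.equivMapOfInjective _ N.subtype_injective).symm.toEquiv] at hd)
  have hVT : V ≤ Tg := by
    intro x hx
    refine ⟨⟨x, le_normalizer hx⟩, hCT ?_, rfl⟩
    show act _ = 1
    refine (map_eq_one_iff _ (IsCyclic.mulAutMulEquiv V).injective).2 ?_
    refine MulEquiv.ext fun v => Subtype.ext ?_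
    show x * (v : G) * x⁻¹ = v
    rw [hVc x hx v v.2, mul_inv_cancel_right]
  have hfpfT : ∀ t ∈ Tg, t ≠ 1 → ∀ h ∈ H, t * h = h * t → h = 1 := fun t ht ht1 h hh hc =>
    (hno h t hc.symm (elt_of_mem hHP hh) (elt_of_mem hTgP ht)).resolve_right ht1
  by_cases hTtop : T = ⊤
  · left
    have hTgN : Tg = N := by rw [hTg, hTtop, ← MonoidHom.range_eq_map, range_subtype]
    refine ⟨N, CfsgLib.Frobenius.of_fpf (K := H) (H := N) (isComplement'_of_disjoint_and_mul_eq_univ
      (disjoint_iff.2 hNdis) ?_) hH1 (ne_bot_of_le_ne_bot hV1 le_normalizer) (hTgN ▸ hfpfT)⟩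
    rw [← Subgroup.normal_mul, sup_comm, hNH, coe_top]
  right
  have hcopT : (Nat.card T).Coprime T.index :=
    Nat.coprime_of_dvd fun r hr h1 h2 => hT2 r hr h2 (hT1 r hr h1)
  obtain ⟨S, hS⟩ := Subgroup.exists_right_complement'_of_coprime hcopT
  set Sg : Subgroup G := S.map N.subtype with hSg
  have hSN : Sg ≤ N := map_subtype_le _
  have hScard : Nat.card Sg = T.index := by
    rw [hSg, Nat.card_congr (S.equivMapOfInjective _ N.subtype_injective).symm.toEquiv,
      hS.symm.index_eq_card]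
  have hSgP : Sub' P Sg := fun r hr hd => not_not.1 (hT2 r hr (hScard ▸ hd))
  have hS1 : Sg ≠ ⊥ := fun h => hTtop (index_eq_one.1 (by rw [← hScard, h, card_bot]))
  have hST : Sg ⊓ Tg = ⊥ := inf_eq_bot hSgP hTgP
  set K := H ⊔ Tg with hK
  haveI hKn : K.Normal := by
    rw [← normalizer_eq_top_iff, eq_top_iff, ← hNH]
    refine sup_le (fun n hn => ?_) (le_trans le_sup_left le_normalizer)
    rw [mem_normalizer_iff_map_conj_eq, hK, Subgroup.map_sup]
    refine congrArg₂ _ ?_ ?_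
    · exact mem_normalizer_iff_map_conj_eq.1 (by rw [normalizer_eq_top_iff.2 inferInstance]; exact mem_top n)
    · refine le_antisymm ?_ ?_
      · rintro _ ⟨_, ⟨t, ht, rfl⟩, rfl⟩
        exact ⟨⟨n, hn⟩ * t * ⟨n, hn⟩⁻¹, Subgroup.Normal.conj_mem inferInstance t ht _, rfl⟩
      · rintro _ ⟨t, ht, rfl⟩
        exact ⟨n⁻¹ * (t : G) * n, ⟨⟨n, hn⟩⁻¹ * t * ⟨n, hn⟩, (by
          simpa using Subgroup.Normal.conj_mem (inferInstance : T.Normal) t ht ⟨n, hn⟩⁻¹), rfl⟩,
          by simp [mul_assoc]⟩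
  have hHT : H ⊓ Tg = ⊥ := inf_eq_bot hHP hTgP
  refine ⟨H, K, inferInstance, hKn, lt_of_le_of_ne le_sup_left fun h => hV1 ?_, ?_, ?_⟩
  · exact le_bot_iff.1 (hHV ▸ le_inf ((hVT.trans le_sup_right).trans h.ge) le_rfl)
  · have hc : IsComplement' (H.subgroupOf K) (Tg.subgroupOf K) := by
      refine isComplement'_of_disjoint_and_mul_eq_univ (disjoint_iff.2 ?_) ?_
      · rw [Subgroup.subgroupOf, Subgroup.subgroupOf, ← Subgroup.comap_inf, hHT, MonoidHom.comap_bot, ker_subtype]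
      · rw [← Subgroup.normal_mul, ← subgroupOf_sup le_sup_left le_sup_right, subgroupOf_self,
          coe_top]
    have hF : Cfsg.IsFrobeniusComplement (Tg.subgroupOf K) := by
      refine CfsgLib.Frobenius.of_fpf hc ?_ ?_ fun t ht ht1 h hh hcm => Subtype.ext ?_
      · rw [Ne, subgroupOf_eq_bot, disjoint_iff, inf_of_le_left le_sup_left]; exact hH1
      · rw [Ne, subgroupOf_eq_bot, disjoint_iff, inf_of_le_left le_sup_right]
        exact ne_bot_of_le_ne_bot hV1 hVT
      · exact hfpfT _ ht (fun e => ht1 (Subtype.ext e)) _ hh (congrArg Subtype.val hcm)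
    exact ⟨_, hF, CfsgLib.Frobenius.kernel_eq hF hc⟩
  · have hKmap : K.map (QuotientGroup.mk' H) = Tg.map (QuotientGroup.mk' H) := by
      rw [hK, Subgroup.map_sup,
        (Subgroup.map_eq_bot_iff H).2 (QuotientGroup.ker_mk' H).ge, bot_sup_eq]
    haveI : (K.map (QuotientGroup.mk' H)).Normal :=
      Subgroup.Normal.map hKn _ (QuotientGroup.mk'_surjective H)
    have hinjN : ∀ a ∈ N, ∀ c ∈ N, QuotientGroup.mk' H a = QuotientGroup.mk' H c → a = c := by
      intro a ha c hc hac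
      have h1 : a⁻¹ * c ∈ H ⊓ N := ⟨QuotientGroup.eq.1 hac, N.mul_mem (N.inv_mem ha) hc⟩
      rw [hNdis, mem_bot, inv_mul_eq_one] at h1
      exact h1
    have hc : IsComplement' (K.map (QuotientGroup.mk' H)) (Sg.map (QuotientGroup.mk' H)) := by
      refine isComplement'_of_disjoint_and_mul_eq_univ (disjoint_iff.2 ?_) ?_
      · rw [hKmap]
        refine (eq_bot_iff_forall _).2 ?_
        rintro _ ⟨⟨t, ht, rfl⟩, ⟨a, ha, hat⟩⟩
        have h1 := hinjN a (hSN ha) t (hTN ht) hat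
        have h2 : t ∈ Sg ⊓ Tg := ⟨h1 ▸ ha, ht⟩
        rw [hST, mem_bot] at h2
        rw [h2, map_one]
      · rw [← Subgroup.normal_mul, ← Subgroup.map_sup, hK, sup_assoc, hTg, hSg, ← Subgroup.map_sup,
          sup_comm T S, hS.symm.sup_eq_top, ← MonoidHom.range_eq_map, range_subtype, sup_comm,
          hNH, Subgroup.map_top_of_surjective _ (QuotientGroup.mk'_surjective H), coe_top]
    have hF : Cfsg.IsFrobeniusComplement (Sg.map (QuotientGroup.mk' H)) := by
      refine CfsgLib.Frobenius.of_fpf hc ?_ ?_ ?_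
      · rw [hKmap]
        intro h
        have h1 : V ≤ H := hVT.trans (by rwa [Subgroup.map_eq_bot_iff, QuotientGroup.ker_mk'] at h)
        exact hV1 (le_bot_iff.1 (hHV ▸ le_inf h1 le_rfl))
      · intro h
        rw [Subgroup.map_eq_bot_iff, QuotientGroup.ker_mk'] at h
        exact hS1 (le_bot_iff.1 (hNdis ▸ le_inf h hSN))
      · rintro _ ⟨a, ha, rfl⟩ ha1 x hx hcm
        rw [hKmap] at hx
        obtain ⟨t, ht, rfl⟩ := hx
        rw [← map_mul, ← map_mul] at hcm
        have h1 := hinjN _ (mul_mem (hSN ha) (hTN ht)) _ (mul_mem (hTN ht) (hSN ha)) hcm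
        rcases hno a t h1 (elt_of_mem hSgP ha) (elt_of_mem hTgP ht) with h | h
        · exact absurd (by rw [h, map_one]) ha1
        · rw [h, map_one]
    exact ⟨_, hF, CfsgLib.Frobenius.kernel_eq hF hc⟩

theorem solvable_disconnected [Group.IsSolvable G] (A : ℕ → Prop)
    (ha : ∃ a : ℕ, a.Prime ∧ a ∣ Nat.card G ∧ A a) (hb : ∃ b : ℕ, b.Prime ∧ b ∣ Nat.card G ∧ ¬ A b)
    (h : ∀ a b : ℕ, a.Prime → b.Prime → a ∣ Nat.card G → b ∣ Nat.card G → A a → ¬ A b →
      ¬ ∃ g : G, orderOf g = a * b) : Concl G := by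
  classical
  haveI : Nontrivial G := by
    obtain ⟨a, hap, haG, -⟩ := ha
    exact Finite.one_lt_card_iff_nontrivial.1
      (lt_of_lt_of_le hap.one_lt (Nat.le_of_dvd Nat.card_pos haG))
  obtain ⟨M, hM, hM1, -, -, -, s, hs, -, hMp⟩ :=
    CfsgLib.Solvable.exists_normal_elementary_le (N := (⊤ : Subgroup G)) top_ne_bot inferInstance
  haveI : Fact s.Prime := ⟨hs⟩
  have hsub : ∀ P : ℕ → Prop, P s → Sub' P M := fun P hP r hr hd => by
    obtain ⟨k, hk⟩ := IsPGroup.iff_card.1 hMp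
    rw [hk] at hd
    exact (Nat.prime_dvd_prime_iff_eq hr hs).1 (hr.dvd_of_dvd_pow hd) ▸ hP
  by_cases hAs : A s
  · exact two_step A (noMix_of_hyp A h) ⟨M, hM, hM1, hsub A hAs⟩ hb
  · refine two_step (fun r => ¬ A r) (noMix_of_hyp _ fun a b hap hbp had hbd hPa hPb => ?_)
      ⟨M, hM, hM1, hsub _ hAs⟩ ?_
    · rintro ⟨g, hg⟩
      exact h b a hbp hap hbd had (not_not.1 hPb) hPa ⟨g, by rw [hg, mul_comm]⟩
    · obtain ⟨a, h1, h2, h3⟩ := ha
      exact ⟨a, h1, h2, not_not.2 h3⟩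

end CfsgLib.SolvDisconnected
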