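import Mathlib
import Cfsg.Agent.PrimeGraph.PSL2Spectrum

/-!
A solvable group whose element orders are the divisors of `p*a`, `p*b`, `a*b`.
-/

set_option autoImplicit false

namespace CfsgLib.SolvableSpec

variable {K : Type} [Field K]

/-- `(x,w)` sends `(v₁,v₂)` to `(w v₁, x v₂)`. -/
def act (K : Type) [Field K] (A B : Subgroup Kˣ) : (↥A × ↥B) →* MulAut (Multiplicative (K × K)) where
  toFun t :=
    { toFun := fun v => Multiplicative.ofAdd (((t.2 : Kˣ) : K) * v.toAdd.1, ((t.1 : Kˣ) : K) * v.toAdd.2)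
      invFun := fun v => Multiplicative.ofAdd ((((t.2 : Kˣ)⁻¹ : Kˣ) : K) * v.toAdd.1,
        (((t.1 : Kˣ)⁻¹ : Kˣ) : K) * v.toAdd.2)
      left_inv := fun v => by simp [← mul_assoc]
      right_inv := fun v => by simp [← mul_assoc]
      map_mul' := fun v w => by simp [mul_add, ← ofAdd_add] }
  map_one' := by
    apply MulEquiv.ext
    intro v
    apply Multiplicative.toAdd.injective
    show (((((1 : ↥A × ↥B).2 : Kˣ) : K)) * v.toAdd.1, (((1 : ↥A × ↥B).1 : Kˣ) : K) * v.toAdd.2) = v.toAdd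
    simp
  map_mul' s t := by
    apply MulEquiv.ext
    intro v
    apply Multiplicative.toAdd.injective
    show ((((s * t).2 : Kˣ) : K) * v.toAdd.1, (((s * t).1 : Kˣ) : K) * v.toAdd.2) =
      (((s.2 : Kˣ) : K) * (((t.2 : Kˣ) : K) * v.toAdd.1), ((s.1 : Kˣ) : K) * (((t.1 : Kˣ) : K) * v.toAdd.2))
    simp [mul_assoc]

theorem act_apply (A B : Subgroup Kˣ) (t : ↥A × ↥B) (v : Multiplicative (K × K)) :
    (act K A B t v).toAdd = (((t.2 : Kˣ) : K) * v.toAdd.1, ((t.1 : Kˣ) : K) * v.toAdd.2) := rfl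

theorem pow_left (A B : Subgroup Kˣ) (h : Multiplicative (K × K) ⋊[act K A B] (↥A × ↥B)) (n : ℕ) :
    (((h.right.2 : Kˣ) : K) - 1) * (h ^ n).left.toAdd.1 =
        (((h.right.2 : Kˣ) : K) ^ n - 1) * h.left.toAdd.1 ∧
    (((h.right.1 : Kˣ) : K) - 1) * (h ^ n).left.toAdd.2 =
        (((h.right.1 : Kˣ) : K) ^ n - 1) * h.left.toAdd.2 := by
  induction n with
  | zero => simp
  | succ n ih =>
    rw [pow_succ', SemidirectProduct.mul_left, toAdd_mul, act_apply]
    simp only [Prod.fst_add, Prod.snd_add]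
    exact ⟨by linear_combination ((h.right.2 : Kˣ) : K) * ih.1,
      by linear_combination ((h.right.1 : Kˣ) : K) * ih.2⟩

theorem exists_solvable (K : Type) [Field K] [Finite K] (p a b : ℕ) [Fact p.Prime] [CharP K p]
    (ha : a ∣ Nat.card Kˣ) (hb : b ∣ Nat.card Kˣ) (hab : a.Coprime b) (hpa : p.Coprime a)
    (hpb : p.Coprime b) :
    ∃ (H : Type) (_ : Group H) (_ : Finite H), Group.IsSolvable H ∧
      Set.range (orderOf : H → ℕ) = {n | n ∣ p * a ∨ n ∣ p * b ∨ n ∣ a * b} := by
  have hp : p.Prime := Fact.out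
  have ex : ∀ c : ℕ, c ∣ Nat.card Kˣ → ∃ u : Kˣ, orderOf u = c := by
    intro c hc
    obtain ⟨g, hg⟩ := IsCyclic.exists_ofOrder_eq_natCard (α := Kˣ)
    obtain ⟨u, hu⟩ := CfsgLib.PSL2Spec.mem_range_orderOf_of_dvd (g := g) (hg ▸ hc)
    exact ⟨u, hu⟩
  obtain ⟨xi, hxi⟩ := ex a ha
  obtain ⟨et, het⟩ := ex b hb
  set A := Subgroup.zpowers xi
  set B := Subgroup.zpowers et
  let H := Multiplicative (K × K) ⋊[act K A B] (↥A × ↥B)
  have : Finite H := Finite.of_equiv _ SemidirectProduct.equivProd.symm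
  have hexp : ∀ v : Multiplicative (K × K), v ^ p = 1 := fun v => by
    apply Multiplicative.toAdd.injective
    rw [toAdd_pow, toAdd_one]
    ext <;> simp
  have hright : ∀ (h : H) (n : ℕ), (h ^ n).right = h.right ^ n := fun h n =>
    map_pow (SemidirectProduct.rightHom (φ := act K A B)) h n
  have hA : ∀ x : ↥A, x ^ a = 1 := fun x => by
    have := pow_card_eq_one' (G := ↥A) (x := x)
    rwa [Nat.card_zpowers, hxi] at this
  have hB : ∀ x : ↥B, x ^ b = 1 := fun x => by
    have := pow_card_eq_one' (G := ↥B) (x := x)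
    rwa [Nat.card_zpowers, het] at this
  have inl_of_right : ∀ h : H, h.right = 1 → h ^ p = 1 := fun h hr => by
    have : h = SemidirectProduct.inl h.left := by apply SemidirectProduct.ext <;> simp [hr]
    rw [this, ← map_pow, hexp, map_one]
  refine ⟨H, inferInstance, inferInstance, ?_, ?_⟩
  · exact solvable_of_ker_le_range (SemidirectProduct.inl (φ := act K A B))
      (SemidirectProduct.rightHom) SemidirectProduct.range_inl_eq_ker_rightHom.ge
  ext n
  constructor
  · rintro ⟨h, rfl⟩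
    by_cases hw : h.right.2 = 1
    · refine Or.inl (orderOf_dvd_of_pow_eq_one ?_)
      rw [mul_comm, pow_mul]
      refine inl_of_right _ ?_
      rw [hright]
      ext1
      · rw [Prod.pow_fst, hA]; rfl
      · rw [Prod.pow_snd, hw, one_pow]; rfl
    by_cases hx : h.right.1 = 1
    · refine Or.inr (Or.inl (orderOf_dvd_of_pow_eq_one ?_))
      rw [mul_comm, pow_mul]
      refine inl_of_right _ ?_
      rw [hright]
      ext1
      · rw [Prod.pow_fst, hx, one_pow]; rfl
      · rw [Prod.pow_snd, hB]; rfl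
    refine Or.inr (Or.inr (orderOf_dvd_of_pow_eq_one ?_))
    have hx' : h.right.1 ^ (a * b) = 1 := by rw [pow_mul, hA, one_pow]
    have hw' : h.right.2 ^ (a * b) = 1 := by rw [mul_comm, pow_mul, hB, one_pow]
    obtain ⟨e1, e2⟩ := pow_left A B h (a * b)
    have c1 : ((h.right.2 : Kˣ) : K) ^ (a * b) = 1 := by
      rw [← Units.val_pow_eq_pow_val, ← SubgroupClass.coe_pow, hw']; rfl
    have c2 : ((h.right.1 : Kˣ) : K) ^ (a * b) = 1 := by
      rw [← Units.val_pow_eq_pow_val, ← SubgroupClass.coe_pow, hx']; rfl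
    rw [c1, sub_self, zero_mul, mul_eq_zero, sub_eq_zero] at e1
    rw [c2, sub_self, zero_mul, mul_eq_zero, sub_eq_zero] at e2
    apply SemidirectProduct.ext
    · apply Multiplicative.toAdd.injective
      refine Prod.ext ?_ ?_
      · exact e1.resolve_left fun h' => hw (Subtype.ext (Units.ext h'))
      · exact e2.resolve_left fun h' => hx (Subtype.ext (Units.ext h'))
    · rw [hright]
      exact Prod.ext hx' hw'
  · have hv1 : orderOf (Multiplicative.ofAdd ((1 : K), (0 : K))) = p :=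
      orderOf_eq_prime (hexp _) fun h => one_ne_zero (congrArg (fun v : Multiplicative (K × K) => v.toAdd.1) h)
    have hv2 : orderOf (Multiplicative.ofAdd ((0 : K), (1 : K))) = p :=
      orderOf_eq_prime (hexp _) fun h => one_ne_zero (congrArg (fun v : Multiplicative (K × K) => v.toAdd.2) h)
    have hxA : orderOf ((⟨xi, Subgroup.mem_zpowers xi⟩, 1) : ↥A × ↥B) = a := by
      rw [Prod.orderOf]
      simp [Subgroup.orderOf_mk, hxi]
    have hxB : orderOf ((1, ⟨et, Subgroup.mem_zpowers et⟩) : ↥A × ↥B) = b := by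
      rw [Prod.orderOf]
      simp [Subgroup.orderOf_mk, het]
    have comb : ∀ (v : Multiplicative (K × K)) (t : ↥A × ↥B) (c : ℕ), orderOf v = p → orderOf t = c →
        p.Coprime c → act K A B t v = v → ∀ m, m ∣ p * c → m ∈ Set.range (orderOf : H → ℕ) := by
      intro v t c hv ht hpc hfix m hm
      have h1 : orderOf (SemidirectProduct.inl v : H) = p :=
        (orderOf_injective _ SemidirectProduct.inl_injective v).trans hv
      have h2 : orderOf (SemidirectProduct.inr t : H) = c :=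
        (orderOf_injective _ SemidirectProduct.inr_injective t).trans ht
      have hc : Commute (SemidirectProduct.inl v : H) (SemidirectProduct.inr t) := by
        apply SemidirectProduct.ext <;> simp [hfix]
      refine CfsgLib.PSL2Spec.mem_range_orderOf_of_dvd
        (g := (SemidirectProduct.inl v : H) * SemidirectProduct.inr t) ?_
      rw [hc.orderOf_mul_eq_mul_orderOf_of_coprime (by rw [h1, h2]; exact hpc), h1, h2]
      exact hm
    rintro (h | h | h)
    · refine comb _ _ a hv1 hxA hpa ?_ n h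
      apply Multiplicative.toAdd.injective
      rw [act_apply]
      simp
    · refine comb _ _ b hv2 hxB hpb ?_ n h
      apply Multiplicative.toAdd.injective
      rw [act_apply]
      simp
    · refine CfsgLib.PSL2Spec.mem_range_orderOf_of_dvd (g := (SemidirectProduct.inr
        ((⟨xi, Subgroup.mem_zpowers xi⟩, ⟨et, Subgroup.mem_zpowers et⟩) : ↥A × ↥B) : H)) ?_
      rw [orderOf_injective _ SemidirectProduct.inr_injective, Prod.orderOf, Subgroup.orderOf_mk,
        Subgroup.orderOf_mk, hxi, het, hab.lcm_eq_mul]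
      exact h

theorem lcm_set (p a b : ℕ) (hab : a.Coprime b) (hpa : p.Coprime a) (hpb : p.Coprime b) :
    {n | n ∣ p * a ∨ n ∣ p * b ∨ n ∣ a * b} =
      {n | ∃ x ∈ {n | n ∣ p ∨ n ∣ a ∨ n ∣ b}, ∃ y ∈ {n | n ∣ p ∨ n ∣ a ∨ n ∣ b}, n = Nat.lcm x y} := by
  ext n
  constructor
  · have key : ∀ u v : ℕ, u.Coprime v → n ∣ u * v → n = Nat.lcm (Nat.gcd n u) (Nat.gcd n v) := by
      intro u v huv h
      rw [Nat.Coprime.lcm_eq_mul (huv.coprime_dvd_left (Nat.gcd_dvd_right n u) |>.coprime_dvd_right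
        (Nat.gcd_dvd_right n v)), ← Nat.Coprime.gcd_mul n huv, Nat.gcd_eq_left h]
    rintro (h | h | h)
    · exact ⟨_, Or.inl (Nat.gcd_dvd_right n p), _, Or.inr (Or.inl (Nat.gcd_dvd_right n a)), key p a hpa h⟩
    · exact ⟨_, Or.inl (Nat.gcd_dvd_right n p), _, Or.inr (Or.inr (Nat.gcd_dvd_right n b)), key p b hpb h⟩
    · exact ⟨_, Or.inr (Or.inl (Nat.gcd_dvd_right n a)), _, Or.inr (Or.inr (Nat.gcd_dvd_right n b)), key a b hab h⟩
  · rintro ⟨x, hx, y, hy, rfl⟩
    rcases hx with hx | hx | hx <;> rcases hy with hy | hy | hy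
    · exact Or.inl (Nat.lcm_dvd (hx.mul_right _) (hy.mul_right _))
    · exact Or.inl (Nat.lcm_dvd (hx.mul_right _) (hy.mul_left _))
    · exact Or.inr (Or.inl (Nat.lcm_dvd (hx.mul_right _) (hy.mul_left _)))
    · exact Or.inl (Nat.lcm_dvd (hx.mul_left _) (hy.mul_right _))
    · exact Or.inl (Nat.lcm_dvd (hx.mul_left _) (hy.mul_left _))
    · exact Or.inr (Or.inr (Nat.lcm_dvd (hx.mul_right _) (hy.mul_left _)))
    · exact Or.inr (Or.inl (Nat.lcm_dvd (hx.mul_left _) (hy.mul_right _)))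
    · exact Or.inr (Or.inr (Nat.lcm_dvd (hx.mul_left _) (hy.mul_right _)))
    · exact Or.inr (Or.inl (Nat.lcm_dvd (hx.mul_left _) (hy.mul_left _)))

end CfsgLib.SolvableSpec
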